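import Mathlib

/-!
Finite `p`-groups in which all elements outside a maximal subgroup have small breadth:
generalities on indices, commutator subgroups and counting outside a maximal subgroup.
-/

set_option autoImplicit false

open Subgroup Finset
open scoped Classical commutatorElement

namespace Breadth66

variable {G : Type*} [Group G] [Finite G] {p : ℕ}

/-- the subgroup contains all commutators and all `p`-th powers -/
def PhiLE (p : ℕ) (H : Subgroup G) : Prop := commutator G ≤ H ∧ ∀ g : G, g ^ p ∈ H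

theorem PhiLE.mono {H K : Subgroup G} (h : PhiLE p H) (hK : H ≤ K) : PhiLE p K :=
  ⟨h.1.trans hK, fun g => hK (h.2 g)⟩

theorem PhiLE.normal {H : Subgroup G} (h : PhiLE p H) : H.Normal := by
  constructor
  intro n hn g
  have h1 : ⁅g, n⁆ ∈ H := h.1 (by
    rw [_root_.commutator_def]
    exact commutator_mem_commutator (mem_top g) (mem_top n))
  have h2 := H.mul_mem h1 hn
  rwa [commutatorElement_def, inv_mul_cancel_right] at h2

theorem PhiLE.inf {H K : Subgroup G} (h : PhiLE p H) (h' : PhiLE p K) : PhiLE p (H ⊓ K) :=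
  ⟨le_inf h.1 h'.1, fun g => ⟨h.2 g, h'.2 g⟩⟩

theorem index_exp [Fact p.Prime] (hG : IsPGroup p G) (H : Subgroup G) :
    ∃ k, H.index = p ^ k :=
  hG.index H

theorem index_drop [Fact p.Prime] (hG : IsPGroup p G) {X Y : Subgroup G} (h : X ≤ Y)
    (hne : ¬ Y ≤ X) : Y.index * p ≤ X.index := by
  obtain ⟨k, hk⟩ := (hG.to_subgroup Y).index (X.subgroupOf Y)
  have h1 : X.relIndex Y = p ^ k := hk
  have hk0 : k ≠ 0 := fun h0 => hne (relIndex_eq_one.1 (by rw [h1, h0, pow_zero]))
  rw [← relIndex_mul_index h, h1, mul_comm]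
  exact Nat.mul_le_mul_right _ (Nat.le_self_pow hk0 p)

theorem index_inf_finset {ι : Type*} (X : Subgroup G) (R : Finset ι) (K : ι → Subgroup G)
    (q : ℕ) (hK : ∀ i ∈ R, (K i).index ≤ q) : (X ⊓ R.inf K).index ≤ X.index * q ^ R.card := by
  induction R using Finset.induction_on with
  | empty => simp
  | insert a R ha ih =>
    rw [Finset.inf_insert, inf_left_comm, inf_comm, card_insert_of_notMem ha, pow_succ,
      ← mul_assoc]
    exact index_inf_le.trans
      (Nat.mul_le_mul (ih fun i hi => hK i (mem_insert_of_mem hi)) (hK a (mem_insert_self _ _)))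

theorem maximal_of_index [hp : Fact p.Prime] {U : Subgroup G} (hU : U.index = p) {K : Subgroup G}
    (h : U ≤ K) (hne : ¬ K ≤ U) : K = ⊤ := by
  have hd := index_dvd_of_le h
  rw [hU] at hd
  rcases (Nat.dvd_prime hp.1).1 hd with h1 | h1
  · exact index_eq_one.1 h1
  · exfalso
    have h2 := relIndex_mul_index h
    rw [h1, hU] at h2
    exact hne (relIndex_eq_one.1
      (Nat.eq_of_mul_eq_mul_right hp.1.pos (h2.trans (one_mul p).symm)))

theorem normal_of_index_p [hp : Fact p.Prime] (hG : IsPGroup p G) {U : Subgroup G}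
    (hU : U.index = p) : U.Normal := by
  refine Subgroup.normal_of_index_eq_minFac_card ?_
  obtain ⟨n, hn⟩ := IsPGroup.iff_card.1 hG
  have hn0 : n ≠ 0 := by
    intro h0
    have h1 := card_mul_index U
    rw [hn, h0, pow_zero, hU] at h1
    exact hp.1.one_lt.ne' (Nat.eq_one_of_mul_eq_one_left h1)
  rw [hU, hn, Nat.Prime.pow_minFac hp.1 hn0]

theorem phiLE_of_index_p [hp : Fact p.Prime] (hG : IsPGroup p G) {U : Subgroup G}
    (hU : U.index = p) : PhiLE p U := by
  haveI := normal_of_index_p hG hU
  have hc : Nat.card (G ⧸ U) = p := hU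
  haveI := isCyclic_of_prime_card hc
  refine ⟨?_, fun g => ?_⟩
  · rw [_root_.commutator_def, Subgroup.commutator_le]
    intro a _ b _
    have h : ((⁅a, b⁆ : G) : G ⧸ U) = 1 := by
      rw [show ((⁅a, b⁆ : G) : G ⧸ U) = ⁅(a : G ⧸ U), (b : G ⧸ U)⁆ from
        map_commutatorElement (QuotientGroup.mk' U) a b, commutatorElement_eq_one_iff_commute]
      exact Std.Commutative.comm (op := (· * ·)) (a : G ⧸ U) (b : G ⧸ U)
    exact (QuotientGroup.eq_one_iff _).1 h
  · rw [← QuotientGroup.eq_one_iff, QuotientGroup.mk_pow, ← hc, pow_card_eq_one']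

theorem card_preimage (N : Subgroup G) [N.Normal] (s : Set (G ⧸ N)) :
    Nat.card {x : G // (x : G ⧸ N) ∈ s} = Nat.card N * Nat.card s := by
  rw [← Nat.card_prod]
  exact Nat.card_congr (QuotientGroup.preimageMkEquivSubgroupProdSet N s)

theorem card_commutator_le_quotient (N : Subgroup G) [N.Normal] :
    Nat.card (commutator G) ≤ Nat.card N * Nat.card (commutator (G ⧸ N)) := by
  have h : ∀ x ∈ commutator G, (x : G ⧸ N) ∈ commutator (G ⧸ N) := by
    have h1 : commutator G ≤ (commutator (G ⧸ N)).comap (QuotientGroup.mk' N) := by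
      rw [_root_.commutator_def, Subgroup.commutator_le]
      intro a _ b _
      rw [mem_comap, map_commutatorElement, _root_.commutator_def]
      exact commutator_mem_commutator (mem_top _) (mem_top _)
    exact fun x hx => h1 hx
  refine le_of_le_of_eq ?_ (card_preimage N (commutator (G ⧸ N) : Set (G ⧸ N)))
  exact Nat.card_le_card_of_injective (fun x : commutator G => ⟨x.1, h x.1 x.2⟩)
    (fun a b hab => Subtype.ext (Subtype.mk.inj hab))

/-- the pivot lemma -/
theorem card_commutator_le_pivot [Fact p.Prime] (hG : IsPGroup p G) {U : Subgroup G}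
    (hU : U.index = p) {e : G} (he : e ∉ U) :
    Nat.card (commutator G) ≤
      (centralizer ({e} : Set G)).index * Nat.card (commutator U) := by
  haveI := normal_of_index_p hG hU
  set N : Subgroup G := ⁅U, U⁆ with hN
  have hNc : Nat.card N = Nat.card (commutator U) := by
    rw [hN, ← map_subtype_commutator]
    exact card_map_of_injective U.subtype_injective
  haveI : N.Normal := by rw [hN]; infer_instance
  set f := QuotientGroup.mk' N with hf
  set x := f e with hx
  have hcomm : ∀ a ∈ U, ∀ b ∈ U, f a * f b = f b * f a := by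
    intro a ha b hb
    rw [← commutatorElement_eq_one_iff_mul_comm, ← map_commutatorElement]
    exact (QuotientGroup.eq_one_iff _).2 (commutator_mem_commutator ha hb)
  let φ : U →* (G ⧸ N) := MonoidHom.mk' (fun u => ⁅x, f u⁆) (by
    intro u v
    have h1 : ⁅x, f (u * v : U)⁆ = ⁅x, f u⁆ * (f u * ⁅x, f v⁆ * (f u)⁻¹) := by
      simp only [Subgroup.coe_mul, map_mul, commutatorElement_def]; group
    have hw : ⁅x, f v⁆ = f ⁅e, (v : G)⁆ := (map_commutatorElement f e v).symm
    have hmem : ⁅e, (v : G)⁆ ∈ U := by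
      rw [commutatorElement_def]
      exact U.mul_mem (Subgroup.Normal.conj_mem inferInstance _ v.2 e) (U.inv_mem v.2)
    rw [h1, hw, hcomm _ u.2 _ hmem, mul_inv_cancel_right])
  have hcard : Nat.card φ.range ≤ (centralizer ({e} : Set G)).index := by
    rw [← index_ker]
    have hle : (centralizer ({e} : Set G)).subgroupOf U ≤ φ.ker := by
      intro u hu
      have hu' : (u : G) * e = e * u := mem_centralizer_singleton_iff.1 (mem_subgroupOf.1 hu)
      have : ⁅x, f u⁆ = 1 := by
        rw [hx, ← map_commutatorElement,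
          commutatorElement_eq_one_iff_mul_comm.2 hu'.symm, map_one]
      exact this
    refine (Nat.le_of_dvd (Nat.pos_of_ne_zero index_ne_zero_of_finite)
      (index_dvd_of_le hle)).trans ?_
    refine le_of_le_of_eq (relIndex_le_of_le_right (le_top : U ≤ ⊤) ?_) (relIndex_top_right _)
    rw [relIndex_top_right]; exact index_ne_zero_of_finite
  have hxU : ∀ w ∈ φ.range, x * w * x⁻¹ ∈ φ.range := by
    rintro w ⟨u, rfl⟩
    refine ⟨⟨e * u * e⁻¹, Subgroup.Normal.conj_mem inferInstance _ u.2 e⟩, ?_⟩
    change ⁅x, f (e * u * e⁻¹)⁆ = x * ⁅x, f u⁆ * x⁻¹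
    rw [map_mul, map_mul, map_inv, ← hx, commutatorElement_def, commutatorElement_def]
    group
  haveI hRn : φ.range.Normal := by
    rw [← normalizer_eq_top_iff]
    have hfin : ∀ z : G ⧸ N, (∀ w ∈ φ.range, z * w * z⁻¹ ∈ φ.range) →
        z ∈ Subgroup.normalizer (φ.range : Set (G ⧸ N)) := fun z hz => by
      exact Subgroup.mem_normalizer_fintype hz
    have hUle : U ≤ (Subgroup.normalizer (φ.range : Set (G ⧸ N))).comap f := fun a ha =>
      hfin _ (by
        rintro w ⟨u, rfl⟩
        have hmem : ⁅e, (u : G)⁆ ∈ U := by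
          rw [commutatorElement_def]
          exact U.mul_mem (Subgroup.Normal.conj_mem inferInstance _ u.2 e) (U.inv_mem u.2)
        have : f a * φ u * (f a)⁻¹ = φ u := by
          change f a * ⁅x, f u⁆ * (f a)⁻¹ = ⁅x, f u⁆
          rw [hx, ← map_commutatorElement, hcomm a ha _ hmem, mul_inv_cancel_right]
        rw [this]; exact ⟨u, rfl⟩)
    have he' : e ∈ (Subgroup.normalizer (φ.range : Set (G ⧸ N))).comap f := hfin _ hxU
    have htop := maximal_of_index hU hUle (fun h => he (h he'))
    refine eq_top_iff.2 fun z _ => ?_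
    obtain ⟨g, rfl⟩ := QuotientGroup.mk'_surjective N z
    have : g ∈ (⊤ : Subgroup G) := mem_top g
    rw [← htop] at this
    exact this
  set π := (QuotientGroup.mk' φ.range).comp f with hπ
  have hπx : ∀ a ∈ U, π e * π a = π a * π e := by
    intro a ha
    rw [← commutatorElement_eq_one_iff_mul_comm, ← map_commutatorElement]
    exact (QuotientGroup.eq_one_iff _).2 ⟨⟨a, ha⟩, (map_commutatorElement f e a).symm⟩
  have hab : ∀ a b : G, π a * π b = π b * π a := by
    have hU' : U ≤ (centralizer ({π e} : Set _)).comap π := fun a ha =>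
      mem_centralizer_singleton_iff.2 (hπx a ha).symm
    have h1 : (centralizer ({π e} : Set _)).comap π = ⊤ :=
      maximal_of_index hU hU' (fun h => he (h (mem_centralizer_singleton_iff.2 rfl)))
    have hec : ∀ a, π a * π e = π e * π a := fun a =>
      mem_centralizer_singleton_iff.1 ((h1.symm ▸ mem_top a : a ∈ _))
    intro a b
    have hU2 : ∀ u ∈ U, U ≤ (centralizer ({π u} : Set _)).comap π := fun u hu v hv =>
      mem_centralizer_singleton_iff.2 (by
        change QuotientGroup.mk' _ (f v) * QuotientGroup.mk' _ (f u) =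
          QuotientGroup.mk' _ (f u) * QuotientGroup.mk' _ (f v)
        rw [← map_mul (QuotientGroup.mk' φ.range), hcomm v hv u hu, map_mul])
    have hUc : ∀ u ∈ U, ∀ c, π c * π u = π u * π c := by
      intro u hu c
      have h2 : (centralizer ({π u} : Set _)).comap π = ⊤ :=
        maximal_of_index hU (hU2 u hu)
          (fun h => he (h (mem_centralizer_singleton_iff.2 (hec u).symm)))
      exact mem_centralizer_singleton_iff.1 ((h2.symm ▸ mem_top c : c ∈ _))
    have hbU : U ≤ (centralizer ({π b} : Set _)).comap π := fun u hu =>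
      mem_centralizer_singleton_iff.2 (hUc u hu b).symm
    have h3 : (centralizer ({π b} : Set _)).comap π = ⊤ :=
      maximal_of_index hU hbU (fun h => he (h (mem_centralizer_singleton_iff.2 (hec b).symm)))
    exact mem_centralizer_singleton_iff.1 ((h3.symm ▸ mem_top a : a ∈ _))
  have hG'R : commutator (G ⧸ N) ≤ φ.range := by
    rw [_root_.commutator_def, Subgroup.commutator_le]
    intro a _ b _
    obtain ⟨a, rfl⟩ := QuotientGroup.mk'_surjective N a
    obtain ⟨b, rfl⟩ := QuotientGroup.mk'_surjective N b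
    rw [← map_commutatorElement]
    have := (commutatorElement_eq_one_iff_mul_comm).2 (hab a b)
    rw [← map_commutatorElement] at this
    exact (QuotientGroup.eq_one_iff _).1 this
  calc Nat.card (commutator G) ≤ Nat.card N * Nat.card (commutator (G ⧸ N)) :=
        card_commutator_le_quotient N
    _ ≤ Nat.card N * (centralizer ({e} : Set G)).index :=
        Nat.mul_le_mul_left _ ((Subgroup.card_le_of_le hG'R).trans hcard)
    _ = _ := by rw [hNc, mul_comm]

/-- the number of elements of `H` outside `M` -/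
noncomputable def out (M H : Subgroup G) : ℕ :=
  Nat.card {x : G // x ∈ H ∧ x ∉ M}

theorem out_eq_zero {M H : Subgroup G} (h : H ≤ M) : out M H = 0 := by
  haveI : IsEmpty {x : G // x ∈ H ∧ x ∉ M} := ⟨fun x => x.2.2 (h x.2.1)⟩
  exact Nat.card_of_isEmpty

theorem out_mono (M : Subgroup G) {H K : Subgroup G} (h : H ≤ K) : out M H ≤ out M K :=
  Nat.card_le_card_of_injective (fun x => ⟨x.1, h x.2.1, x.2.2⟩)
    (fun a b hab => Subtype.ext (Subtype.mk.inj hab))

theorem out_add_card_inf (M H : Subgroup G) :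
    out M H + Nat.card (H ⊓ M : Subgroup G) = Nat.card H := by
  rw [out, add_comm, ← Nat.card_congr (Equiv.sumCompl (fun x : H => (x : G) ∈ M)), Nat.card_sum]
  congr 1
  · exact Nat.card_congr
      { toFun := fun x => ⟨⟨x.1, x.2.1⟩, x.2.2⟩
        invFun := fun x => ⟨x.1.1, x.1.2, x.2⟩ }
  · exact Nat.card_congr
      { toFun := fun x => ⟨⟨x.1, x.2.1⟩, x.2.2⟩
        invFun := fun x => ⟨x.1.1, x.1.2, x.2⟩ }

theorem relIndex_of_not_le [hp : Fact p.Prime] (hG : IsPGroup p G) {M H : Subgroup G}
    (hM : M.index = p) (hH : ¬ H ≤ M) : M.relIndex H = p := by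
  haveI := normal_of_index_p hG hM
  have h : H ⊔ M = ⊤ := maximal_of_index hM le_sup_right (fun h => hH (le_sup_left.trans h))
  have h2 : M.relIndex (H ⊔ M) = M.relIndex H := by
    exact relIndex_sup_right H M
  rw [← h2, h, relIndex_top_right, hM]

theorem out_mul_p [Fact p.Prime] (hG : IsPGroup p G) {M H : Subgroup G}
    (hM : M.index = p) (hH : ¬ H ≤ M) : out M H * p + Nat.card H = Nat.card H * p := by
  have h1 := out_add_card_inf M H
  have h2 : Nat.card (H ⊓ M : Subgroup G) * p = Nat.card H := by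
    have h3 : (⊥ : Subgroup G).relIndex (H ⊓ M) * (H ⊓ M).relIndex H = (⊥ : Subgroup G).relIndex H :=
      relIndex_mul_relIndex _ _ _ bot_le inf_le_left
    rw [relIndex_bot_left, relIndex_bot_left, inf_relIndex_left,
      relIndex_of_not_le hG hM hH] at h3
    exact h3
  calc out M H * p + Nat.card H = out M H * p + Nat.card (H ⊓ M : Subgroup G) * p := by rw [h2]
    _ = Nat.card H * p := by rw [← add_mul, h1]

theorem out_mul_index [hp : Fact p.Prime] (hG : IsPGroup p G) {M H : Subgroup G}
    (hM : M.index = p) (hH : ¬ H ≤ M) : out M H * H.index = out M ⊤ := by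
  have hT : ¬ (⊤ : Subgroup G) ≤ M := fun h => hH (le_top.trans h)
  have h1 := out_mul_p hG hM hH
  have h2 := out_mul_p hG hM hT
  rw [card_top] at h2
  have h3 := card_mul_index H
  refine Nat.eq_of_mul_eq_mul_right hp.1.pos ?_
  have h4 : out M H * H.index * p + Nat.card G = Nat.card G * p := by
    calc out M H * H.index * p + Nat.card G
        = (out M H * p + Nat.card H) * H.index := by rw [← h3]; ring
      _ = Nat.card G * p := by rw [h1, ← h3]; ring
  omega

theorem out_mul_le [Fact p.Prime] (hG : IsPGroup p G) {M : Subgroup G} (hM : M.index = p)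
    (H : Subgroup G) : out M H * H.index ≤ out M ⊤ := by
  by_cases hH : H ≤ M
  · simp [out_eq_zero hH]
  · exact (out_mul_index hG hM hH).le

theorem out_top_pos [hp : Fact p.Prime] {M : Subgroup G} (hM : M.index = p) : 0 < out M ⊤ := by
  have hne : ¬ (⊤ : Subgroup G) ≤ M := fun h => by
    rw [top_le_iff.1 h, index_top] at hM
    exact hp.1.one_lt.ne hM
  obtain ⟨x, -, hx⟩ := SetLike.not_le_iff_exists.1 hne
  haveI : Nonempty {y : G // y ∈ (⊤ : Subgroup G) ∧ y ∉ M} := ⟨⟨x, mem_top x, hx⟩⟩
  exact Nat.card_pos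

theorem out_subgroupOf (M H U : Subgroup G) :
    out (M.subgroupOf U) (H.subgroupOf U) = out M (H ⊓ U) :=
  Nat.card_congr
    { toFun := fun x => ⟨x.1.1, ⟨x.2.1, x.1.2⟩, fun h => x.2.2 h⟩
      invFun := fun x => ⟨⟨x.1, x.2.1.2⟩, x.2.1.1, fun h => x.2.2 h⟩ }

theorem out_quotient (N : Subgroup G) [N.Normal] {M H : Subgroup G} (hM : N ≤ M) (hH : N ≤ H) :
    out M H = Nat.card N *
      out (M.map (QuotientGroup.mk' N)) (H.map (QuotientGroup.mk' N)) := by
  have hmem : ∀ (K : Subgroup G), N ≤ K → ∀ x : G,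
      ((x : G ⧸ N) ∈ K.map (QuotientGroup.mk' N) ↔ x ∈ K) := by
    intro K hK x
    have : x ∈ (K.map (QuotientGroup.mk' N)).comap (QuotientGroup.mk' N) ↔ x ∈ K := by
      rw [comap_map_eq_self (by simpa using hK)]
    exact this
  have h := card_preimage N {z : G ⧸ N |
    z ∈ H.map (QuotientGroup.mk' N) ∧ z ∉ M.map (QuotientGroup.mk' N)}
  refine Eq.trans ?_ h
  refine Nat.card_congr (Equiv.subtypeEquivRight fun x => ?_)
  simp only [Set.mem_setOf_eq, hmem H hH, hmem M hM]

/-- triangular numbers -/
def tri : ℕ → ℕ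
  | 0 => 0
  | n + 1 => tri n + (n + 1)

theorem tri_eq (n : ℕ) : tri n = n * (n + 1) / 2 := by
  have h : ∀ n, 2 * tri n = n * (n + 1) := by
    intro n; induction n with
    | zero => rfl
    | succ n ih => rw [tri, mul_add, ih]; ring
  have := h n
  omega

theorem tri_mono {m n : ℕ} (h : m ≤ n) : tri m ≤ tri n := by
  induction h with
  | refl => exact le_rfl
  | step _ ih => exact ih.trans (by rw [tri]; omega)

end Breadth66
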