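import Cfsg.Agent.Lib.Breadth66.Steps

/-!
The induction: a finite `p`-group whose class sizes outside a maximal subgroup are at most
`p ^ b` has derived subgroup of order at most `p ^ (b * (b + 1) / 2)`.
-/

set_option autoImplicit false

open Subgroup Finset
open scoped Classical commutatorElement

namespace Breadth66

universe u

variable {G : Type u} [Group G] {p : ℕ}

theorem exists_index_p_ge [Finite G] [hp : Fact p.Prime] (hG : IsPGroup p G) {L : Subgroup G}
    (hL : L ≠ ⊤) : ∃ K : Subgroup G, L ≤ K ∧ K.index = p := by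
  obtain ⟨n, hn⟩ := IsPGroup.iff_card.1 hG
  obtain ⟨m, hm⟩ := IsPGroup.iff_card.1 (hG.to_subgroup L)
  have hmn : m < n := by
    by_contra h
    have h1 : p ^ n ≤ p ^ m := Nat.pow_le_pow_right hp.1.pos (by omega)
    rw [← hn, ← hm] at h1
    exact hL (Subgroup.eq_top_of_le_card L h1)
  obtain ⟨n, rfl⟩ : ∃ n', n = n' + 1 := ⟨n - 1, by omega⟩
  obtain ⟨K, hK, hLK⟩ := Sylow.exists_subgroup_card_pow_prime_le (G := G) p (m := n) (n := m)
    (by rw [hn]; exact pow_dvd_pow p (by omega)) L hm (by omega)
  refine ⟨K, hLK, ?_⟩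
  have h2 := card_mul_index K
  rw [hK, hn, pow_succ] at h2
  exact Nat.eq_of_mul_eq_mul_left (pow_pos hp.1.pos n) h2

theorem conversion {ι : Type} [Fintype ι] [Finite G] [hp : Fact p.Prime] (hG : IsPGroup p G)
    {c j r : ℕ} {S : Items G ι} (hS : S.Shape p c) (hP : S.Pred p c cen) {y : G}
    {hy : ∀ g, ⁅y, g⁆ ∈ center G} (hyp : y ^ p ∈ center G) (hyM : y ∈ S.M)
    (hyL : ∀ i, y ∈ S.L i) (hr : (commHom y hy).ker.index = p ^ r) (hrj : r = c + j) (hj : 1 ≤ j)
    (hr3 : 3 ≤ r) (hrem : ∀ i, 2 ≤ S.rem i) :
    (S.cons (commHom y hy).ker 0 (j + 1) True True).Shape p (c - (j + 1)) ∧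
      (S.cons (commHom y hy).ker 0 (j + 1) True True).Pred p (c - (j + 1))
        (cenMod (commHom y hy).range) := by
  set L := (commHom y hy).ker with hL
  set S' := S.cons L 0 (j + 1) True True with hS'
  have hamode : ∀ o, S'.amode o := fun o => by
    cases o with
    | none => trivial
    | some i => exact Or.inl trivial
  refine ⟨⟨hS.hM, cons_shape_hL hS (commHom_phiLE hyp) _ _ _ _, fun o => ?_, ?_⟩, ?_⟩
  · cases o with
    | none => exact Nat.zero_le _
    | some i => exact Nat.sub_le_sub_right (hS.hrem i) _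
  · change (∑ o, S'.wt p o * out S.M (S'.L o)) < out S.M ⊤
    refine Nat.lt_of_mul_lt_mul_left (a := 4) ?_
    rw [Fintype.sum_option, mul_add, Finset.mul_sum]
    change 4 * (S'.wt p none * out S.M L) + ∑ i, 4 * (S'.wt p (some i) * out S.M (S.L i)) < _
    have h0 : 4 * (S'.wt p none * out S.M L) ≤ out S.M ⊤ := by
      rw [wt_of S' (hamode none)]
      change 4 * (2 * p ^ 0 * out S.M L) ≤ _
      refine le_trans ?_ (out_mul_le hG hS.hM L)
      rw [hr, pow_zero, mul_one, ← mul_assoc, mul_comm]
      refine Nat.mul_le_mul_left _ ?_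
      calc 4 * 2 ≤ p ^ 3 := le_trans (by norm_num) (Nat.pow_le_pow_left hp.1.two_le 3)
        _ ≤ p ^ r := Nat.pow_le_pow_right hp.1.pos hr3
    have h1 : ∀ i, 4 * (S'.wt p (some i) * out S.M (S.L i)) ≤
        2 * (S.wt p i * out S.M (S.L i)) := by
      intro i
      rw [← mul_assoc, ← mul_assoc]
      refine Nat.mul_le_mul_right _ ?_
      rw [wt_of S' (hamode (some i))]
      change 4 * (2 * p ^ (S.rem i - (j + 1))) ≤ _
      have h2 : p ^ 2 * p ^ (S.rem i - (j + 1)) ≤ p ^ S.rem i := by
        rw [← pow_add]; exact Nat.pow_le_pow_right hp.1.pos (by have := hrem i; omega)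
      have h3 : p ^ S.rem i ≤ S.wt p i := by
        rw [Items.wt]; exact Nat.le_mul_of_pos_left _ (by split_ifs <;> omega)
      have h4 : 4 ≤ p ^ 2 := le_trans (by norm_num) (Nat.pow_le_pow_left hp.1.two_le 2)
      have h5 : 4 * p ^ (S.rem i - (j + 1)) ≤ p ^ 2 * p ^ (S.rem i - (j + 1)) :=
        Nat.mul_le_mul_right _ h4
      omega
    have h6 := Finset.sum_le_sum (fun i (_ : i ∈ Finset.univ) => h1 i)
    rw [← Finset.mul_sum (a := 2)] at h6
    have := hS.hwt
    omega
  · intro g hg R hR K _
    have hlk : S'.lack g = ∅ :=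
      Finset.filter_eq_empty_iff.2 fun o _ h => hg.2 o (hamode o) h
    rw [hlk] at hR
    rw [Finset.subset_empty.1 hR, Finset.inf_empty, inf_top_eq, hlk, Finset.card_empty, add_zero]
    have hT : S.InT g := ⟨hg.1, fun i => hg.2 (some i) (hamode (some i))⟩
    obtain ⟨a, ha, hb⟩ := inT_bound hG hP hyM hyL hr hT (hg.2 none (hamode none))
    rw [ha]; exact Nat.pow_le_pow_right hp.1.pos (by omega)

/-- the move used when `M` and all exceptional subgroups meet in the centre -/
theorem central_step {ι : Type} [Fintype ι] [Finite G] [hp : Fact p.Prime] (hG : IsPGroup p G)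
    {c : ℕ} {S : Items G ι} (hS : S.Shape p (c + 1)) (hP : S.Pred p (c + 1) cen)
    (hrem : ∀ i, 1 ≤ S.rem i) (hG' : commutator G ≤ center G) {t : G} (ht : S.InT t)
    (htp : t ^ p ∈ center G) (htZ : t ∉ center G) :
    ∃ (N : Subgroup G) (_ : N.Normal) (S' : Items G ι), N ≠ ⊥ ∧ N ≤ S'.M ∧ (∀ i, N ≤ S'.L i) ∧
      Nat.card N ≤ p ^ (c + 1) ∧ (∀ i, S'.rem i = S.rem i - 1) ∧
      S'.Shape p c ∧ S'.Pred p c (cenMod N) := by
  have hy : ∀ g, ⁅t, g⁆ ∈ center G := fun g => hG' (by
    rw [_root_.commutator_def]; exact commutator_mem_commutator (mem_top _) (mem_top _))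
  set L := (commHom t hy).ker with hLdef
  set N := (commHom t hy).range with hNdef
  have hLtop : L ≠ ⊤ := fun h => htZ (mem_center_iff.2 fun g => by
    have : g ∈ L := h ▸ mem_top g
    rw [hLdef, commHom_ker, mem_cen] at this
    exact this)
  obtain ⟨K, hLK, hK⟩ := exists_index_p_ge hG hLtop
  have htK : t ∈ K := hLK (by rw [hLdef, commHom_ker, mem_cen])
  have hNG' : N ≤ commutator G := commHom_range_le_commutator
  let S' : Items G ι :=
    ⟨K, fun i => if S.L i ≤ S.M then K else S.L i ⊔ zpowers t, fun i => S.rem i - 1, S.amode⟩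
  have hL' : ∀ i, PhiLE p (S'.L i) ∧ t ∈ S'.L i := fun i => by
    by_cases h : S.L i ≤ S.M
    · have e : S'.L i = K := if_pos h
      rw [e]; exact ⟨phiLE_of_index_p hG hK, htK⟩
    · have e : S'.L i = S.L i ⊔ zpowers t := if_neg h
      rw [e]; exact ⟨(hS.hL i).mono le_sup_left, mem_sup_right (mem_zpowers t)⟩
  refine ⟨N, inferInstance, S', ?_, hNG'.trans (phiLE_of_index_p hG hK).1,
    fun i => hNG'.trans (hL' i).1.1, ?_, fun i => rfl, ?_, ?_⟩
  · intro h
    refine hLtop (index_eq_one.1 ?_)
    rw [hLdef, ← card_commHom_range, ← hNdef, h, card_bot]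
  · rw [hNdef, card_commHom_range, commHom_ker]
    exact hP.le_of_inT ht
  · refine ⟨hK, fun i => (hL' i).1, fun i => ?_, ?_⟩
    · have := hS.hrem i
      change S.rem i - 1 ≤ c; omega
    · have hO : out K ⊤ = out S.M ⊤ := by
        have hK' : ¬ (⊤ : Subgroup G) ≤ K := fun h => by
          rw [top_le_iff.1 h, index_top] at hK; exact hp.1.one_lt.ne hK
        have hM' : ¬ (⊤ : Subgroup G) ≤ S.M := fun h => by
          have := hS.hM
          rw [top_le_iff.1 h, index_top] at this; exact hp.1.one_lt.ne this
        have h1 := out_mul_p hG hK hK'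
        have h2 := out_mul_p hG hS.hM hM'
        exact Nat.eq_of_mul_eq_mul_right hp.1.pos (by omega)
      change (∑ i, S'.wt p i * out K (S'.L i)) < out K ⊤
      rw [hO]
      refine lt_of_le_of_lt (Finset.sum_le_sum fun i _ => ?_) hS.hwt
      have hw : S.wt p i = p * S'.wt p i := by
        rw [Items.wt, Items.wt]
        change _ = p * ((if S.amode i then 2 else 1) * p ^ (S.rem i - 1))
        rw [mul_left_comm, ← pow_succ', show S.rem i - 1 + 1 = S.rem i by have := hrem i; omega]
      rw [hw, mul_comm p, mul_assoc]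
      refine Nat.mul_le_mul_left _ ?_
      by_cases h : S.L i ≤ S.M
      · rw [show S'.L i = K from if_pos h, out_eq_zero le_rfl]; exact Nat.zero_le _
      · rw [show S'.L i = S.L i ⊔ zpowers t from if_neg h]
        haveI := (hS.hL i).normal
        have h1 := out_mul_index hG hS.hM h
        have h2 := out_mul_le hG hK (S.L i ⊔ zpowers t)
        rw [hO, ← h1] at h2
        have h3 : (S.L i).index ≤ p * (S.L i ⊔ zpowers t).index := by
          have e : (S.L i ⊔ zpowers t).map (QuotientGroup.mk' (S.L i)) =
              zpowers (t : G ⧸ S.L i) := by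
            rw [Subgroup.map_sup, QuotientGroup.map_mk'_self, bot_sup_eq, MonoidHom.map_zpowers]
            rfl
          have h4 : (zpowers (t : G ⧸ S.L i)).index = (S.L i ⊔ zpowers t).index := by
            rw [← e]
            exact index_map_eq _ (QuotientGroup.mk'_surjective _) (by simp)
          have h5 : Nat.card (zpowers (t : G ⧸ S.L i)) ≤ p := by
            rw [Nat.card_zpowers]
            refine Nat.le_of_dvd hp.1.pos (orderOf_dvd_of_pow_eq_one ?_)
            rw [← QuotientGroup.mk_pow]
            exact (QuotientGroup.eq_one_iff _).2 ((hS.hL i).2 t)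
          rw [← h4]
          calc (S.L i).index = Nat.card (G ⧸ S.L i) := rfl
            _ = Nat.card (zpowers (t : G ⧸ S.L i)) * (zpowers (t : G ⧸ S.L i)).index :=
                (card_mul_index _).symm
            _ ≤ p * _ := Nat.mul_le_mul_right _ h5
        refine Nat.le_of_mul_le_mul_right (h2.trans ?_)
          (Nat.pos_of_ne_zero (index_ne_zero_of_finite (H := S.L i ⊔ zpowers t)))
        calc out S.M (S.L i) * (S.L i).index ≤ out S.M (S.L i) * (p * (S.L i ⊔ zpowers t).index) :=
              Nat.mul_le_mul_left _ h3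
          _ = p * out S.M (S.L i) * (S.L i ⊔ zpowers t).index := by ring
  · intro g hg R hR Kf hKf
    obtain ⟨g', hg'M, hg'g, hg'cm⟩ : ∃ g', g' ∉ S.M ∧ (g' = g ∨ g' = g * t) ∧
        cenMod N g' = cenMod N g := by
      by_cases h : g ∈ S.M
      · exact ⟨g * t, fun h' => ht.1 (by simpa using S.M.mul_mem (S.M.inv_mem h) h'), Or.inr rfl,
          cenMod_mul g⟩
      · exact ⟨g, h, Or.inl rfl, rfl⟩
    have hmem : ∀ H : Subgroup G, t ∈ H → g' ∈ H → g ∈ H := fun H h1 h2 => by
      rcases hg'g with h | h
      · rwa [← h]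
      · have := H.mul_mem h2 (H.inv_mem h1); simpa [h] using this
    have hnotM : ∀ i, g' ∈ S.L i → ¬ S.L i ≤ S.M := fun i h1 h2 => hg'M (h2 h1)
    have hLle : ∀ i, g' ∈ S.L i → S.L i ≤ S'.L i := fun i h1 => by
      rw [show S'.L i = S.L i ⊔ zpowers t from if_neg (hnotM i h1)]; exact le_sup_left
    have hsub : S.lack g' ⊆ S'.lack g := fun i hi => by
      have h1 := (Finset.mem_filter.1 hi).2
      exact Finset.mem_filter.2 ⟨Finset.mem_univ _, hmem _ (hL' i).2 (hLle i h1 h1)⟩
    have hgood : S.Good g' := ⟨hg'M, fun i ha h1 => hg.2 i ha (hmem _ (hL' i).2 (hLle i h1 h1))⟩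
    have hg'L : g' ∉ L := fun h => hg.1 (hmem K htK (hLK h))
    set R0 := R ∩ S.lack g' with hR0
    have hK0 : ∀ i ∈ R0, S.L i ≤ Kf i ∧ (Kf i).index ≤ p := fun i hi => by
      have h1 := (Finset.mem_filter.1 (Finset.mem_inter.1 hi).2).2
      exact ⟨(hLle i h1).trans (hKf i (Finset.mem_inter.1 hi).1).1,
        (hKf i (Finset.mem_inter.1 hi).1).2⟩
    have htX : t ∈ R0.inf Kf := by
      have : ∀ R' : Finset ι, R' ⊆ R0 → t ∈ R'.inf Kf := by
        intro R'
        induction R' using Finset.induction_on with
        | empty => intro _; simp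
        | insert a s _ ih =>
          intro hs
          rw [Finset.inf_insert]
          exact ⟨(hKf a (Finset.mem_inter.1 (hs (Finset.mem_insert_self _ _))).1).1 (hL' a).2,
            ih fun z hz => hs (Finset.mem_insert_of_mem hz)⟩
      exact this R0 Finset.Subset.rfl
    have h1 := hP g' hgood R0 Finset.inter_subset_right Kf hK0
    have hle : cen g' ⊓ R0.inf Kf ≤ cenMod N g ⊓ R0.inf Kf :=
      inf_le_inf_right _ (hg'cm ▸ cen_le_cenMod N g')
    have hne : ¬ cenMod N g ⊓ R0.inf Kf ≤ cen g' ⊓ R0.inf Kf := fun h => hg'L (by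
      have hy' := (h ⟨self_mem_cenMod g, htX⟩).1
      rw [hLdef, commHom_ker, mem_cen]
      exact (mem_cen.1 hy').symm)
    have h2 := (index_drop hG hle hne).trans h1
    rw [show c + 1 + (S.lack g').card = c + (S.lack g').card + 1 by omega, pow_succ] at h2
    have h3 := Nat.le_of_mul_le_mul_right h2 hp.1.pos
    have hsplit : R.inf Kf = R0.inf Kf ⊓ (R \ S.lack g').inf Kf := by
      rw [← Finset.inf_union, hR0]
      congr 1
      ext i; simp only [Finset.mem_union, Finset.mem_inter, Finset.mem_sdiff]; tauto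
    rw [hsplit, ← inf_assoc]
    refine (index_inf_finset _ _ Kf p (fun i hi => (hKf i (Finset.mem_sdiff.1 hi).1).2)).trans ?_
    refine (Nat.mul_le_mul_right _ h3).trans ?_
    rw [← pow_add]
    refine Nat.pow_le_pow_right hp.1.pos ?_
    have h4 : (R \ S.lack g').card ≤ (S'.lack g).card - (S.lack g').card := by
      rw [← Finset.card_sdiff_of_subset hsub]
      exact Finset.card_le_card (Finset.sdiff_subset_sdiff hR Finset.Subset.rfl)
    have h5 := Finset.card_le_card hsub
    omega

theorem card_lt_of_index [Finite G] [hp : Fact p.Prime] {U : Subgroup G} (hU : U.index = p) :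
    Nat.card U < Nat.card G := by
  rw [← card_mul_index U, hU]
  exact lt_mul_right Nat.card_pos hp.1.one_lt

theorem card_quotient_lt [Finite G] (N : Subgroup G) [N.Normal] (hN : N ≠ ⊥) :
    Nat.card (G ⧸ N) < Nat.card G := by
  rw [card_eq_card_quotient_mul_card_subgroup N]
  exact lt_mul_right Nat.card_pos ((Subgroup.one_lt_card_iff_ne_bot N).2 hN)

/-- one round of the induction, for a list without superfluous members -/
theorem bound_step [Finite G] [hp : Fact p.Prime] (hG : IsPGroup p G)
    (hIH : ∀ (H : Type u) [Group H] [Finite H], Nat.card H < Nat.card G → IsPGroup p H → Bound p H)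
    {c : ℕ} {ι : Type} [Fintype ι] {S : Items G ι} (hS : S.Shape p c) (hP : S.Pred p c cen)
    (hclean : ∀ i, ¬ S.L i ≤ S.M) (hab : center G ≠ ⊤) :
    Nat.card (commutator G) ≤ p ^ (tri c + S.reserve c) := by
  have hIHU : ∀ U : Subgroup G, U.index = p → Bound p U := fun U hU =>
    hIH U (card_lt_of_index hU) (hG.to_subgroup U)
  by_cases hex : ∃ i, S.rem i = 0
  · -- a delayed pivot is due
    obtain ⟨i0, hi0, hpref⟩ : ∃ i0, S.rem i0 = 0 ∧
        (S.amode i0 → ∀ i, S.rem i = 0 → S.amode i) := by
      by_cases hB : ∃ i, S.rem i = 0 ∧ ¬ S.amode i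
      · obtain ⟨i, h1, h2⟩ := hB; exact ⟨i, h1, fun h => absurd h h2⟩
      · push Not at hB
        obtain ⟨i, h1⟩ := hex
        exact ⟨i, h1, fun _ => hB⟩
    refine (remove hG hIHU hS hP i0 (hclean i0) (fun t ht => hP.le_of_inT ht) ?_).trans ?_
    · intro ha i
      by_cases h : S.amode i
      · rw [wt_of S h]; exact Nat.le_mul_of_pos_right _ (pow_pos hp.1.pos _)
      · rw [wt_of_not S h]
        exact hp.1.two_le.trans (Nat.le_self_pow (fun h0 => h (hpref ha i h0)) p)
    · refine Nat.pow_le_pow_right hp.1.pos ?_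
      have h : c - S.rem i0 ≤ S.reserve c :=
        Finset.single_le_sum (f := fun i => c - S.rem i) (fun i _ => Nat.zero_le _) (Finset.mem_univ i0)
      rw [hi0, Nat.sub_zero] at h ⊢
      omega
  push Not at hex
  have hrem1 : ∀ i, 1 ≤ S.rem i := fun i => Nat.one_le_iff_ne_zero.2 (hex i)
  have hw2 : ∀ i, 2 ≤ S.wt p i := fun i => by
    rw [Items.wt]
    refine hp.1.two_le.trans ?_
    calc p ≤ p ^ S.rem i := Nat.le_self_pow (hex i) p
      _ ≤ _ := Nat.le_mul_of_pos_left _ (by split_ifs <;> omega)
  obtain ⟨t, ht, htZ⟩ := hS.exists_inT_notMem hG hw2 hab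
  rcases Nat.eq_zero_or_pos c with hc | hc
  · exfalso
    have h1 := hP.le_of_inT ht
    rw [hc, pow_zero] at h1
    have h2 : cen t = ⊤ := index_eq_one.1 (le_antisymm h1 (Nat.pos_of_ne_zero index_ne_zero_of_finite))
    exact htZ (mem_center_iff.2 fun g => mem_cen.1 (h2 ▸ mem_top g))
  obtain ⟨c, rfl⟩ : ∃ c', c = c' + 1 := ⟨c - 1, by omega⟩
  set D := S.M ⊓ (Finset.univ : Finset ι).inf S.L with hDdef
  have hDφ : PhiLE p D := by
    refine (phiLE_of_index_p hG hS.hM).inf ?_
    have : ∀ R : Finset ι, PhiLE p (R.inf S.L) := by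
      intro R
      induction R using Finset.induction_on with
      | empty => exact ⟨le_top, fun g => mem_top _⟩
      | insert a s _ ih => rw [Finset.inf_insert]; exact (hS.hL a).inf ih
    exact this _
  haveI := hDφ.normal
  by_cases hD : D ≤ center G
  · -- class two
    obtain ⟨N, hN, S', hNbot, hNM, hNL, hNcard, hrem', hshape, hpred⟩ :=
      central_step hG hS hP hrem1 (hDφ.1.trans hD) ht (hD (hDφ.2 t)) htZ
    have h1 := hIH (G ⧸ N) (card_quotient_lt N hNbot) (hG.to_quotient N) c ι (S'.quot N)
      (Items.quot_shape hshape hNM hNL) (Items.quot_pred hpred hNM hNL)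
    refine (card_commutator_bound_quot N hNcard h1).trans (Nat.pow_le_pow_right hp.1.pos ?_)
    have h2 : (S'.quot N).reserve c = S.reserve (c + 1) := by
      refine Finset.sum_congr rfl fun i _ => ?_
      change c - S'.rem i = c + 1 - S.rem i
      rw [hrem' i]; have := hrem1 i; omega
    rw [h2, tri]; omega
  · obtain ⟨y, hyD, hy, hyp, hyZ⟩ := exists_y hG hD
    have hyM : y ∈ S.M := hyD.1
    have hyL : ∀ i, y ∈ S.L i := fun i =>
      (Finset.inf_le (f := S.L) (Finset.mem_univ i)) hyD.2
    set L := (commHom y hy).ker with hLdef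
    set N := (commHom y hy).range with hNdef
    obtain ⟨r, hr⟩ := index_exp hG L
    have hr1 : 1 ≤ r := Nat.one_le_iff_ne_zero.2 fun h0 => hyZ (by
      have h1 : L = ⊤ := index_eq_one.1 (by rw [hr, h0, pow_zero])
      exact mem_center_iff.2 fun g => by
        have : g ∈ L := h1 ▸ mem_top g
        rw [hLdef, commHom_ker, mem_cen] at this
        exact this)
    have hNcard : Nat.card N ≤ p ^ r := (card_commHom_range.trans hr).le
    have hNbot : N ≠ ⊥ := fun h => by
      have h1 := card_commHom_range (y := y) (hy := hy)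
      rw [← hNdef, h, card_bot, ← hLdef, hr] at h1
      exact (Nat.one_lt_pow (by omega) hp.1.one_lt).ne h1
    have hNG' : N ≤ commutator G := commHom_range_le_commutator
    have hNM : N ≤ S.M := hNG'.trans (phiLE_of_index_p hG hS.hM).1
    have hNcons : ∀ (ρ d : ℕ) (a b : Prop) (o : Option ι), N ≤ (S.cons L ρ d a b).L o :=
      fun ρ d a b o => hNG'.trans (cons_shape_hL hS (commHom_phiLE hyp) ρ d a b o).1
    have hIHQ : Bound p (G ⧸ N) := hIH (G ⧸ N) (card_quotient_lt N hNbot) (hG.to_quotient N)
    rcases Nat.lt_or_ge (c + 1) r with hrc | hrc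
    swap
    · -- the ordinary step
      have hsh := standard_shape hG hS hrem1 (commHom_phiLE hyp) hr (ρ := r - 1) (by omega) (by omega)
      have hpr := standard_pred hG hP hyM hyL (hy := hy) (r - 1)
      have h1 := hIHQ c _ _ (Items.quot_shape hsh hNM (hNcons _ _ _ _))
        (Items.quot_pred hpr hNM (hNcons _ _ _ _))
      refine (card_commutator_bound_quot N hNcard h1).trans (Nat.pow_le_pow_right hp.1.pos ?_)
      have h2 : ((S.cons L (r - 1) 1 False False).quot N).reserve c
          = (c - (r - 1)) + S.reserve (c + 1) := by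
        change (∑ o : Option ι, _) = _
        rw [Fintype.sum_option]
        congr 1
        refine Finset.sum_congr rfl fun i _ => ?_
        change c - (S.rem i - 1) = _
        have := hrem1 i; omega
      rw [h2, tri]; omega
    · have hsh := standard_shape hG hS hrem1 (commHom_phiLE hyp) hr (ρ := c) le_rfl (by omega)
      have hpr := standard_pred hG hP hyM hyL (hy := hy) c
      obtain ⟨t', ht'⟩ := hsh.exists_inT
      obtain ⟨a0, -, ha0⟩ := inT_bound hG hP hyM hyL hr
        (t := t') ⟨ht'.1, fun i => ht'.2 (some i)⟩ (ht'.2 none)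
      obtain ⟨j, hj⟩ : ∃ j, r = c + 1 + j := ⟨r - (c + 1), by omega⟩
      by_cases hone : ∃ i, S.rem i = 1
      · obtain ⟨i1, hi1, hpref⟩ : ∃ i1, S.rem i1 = 1 ∧
            (S.amode i1 → ∀ i, S.rem i = 1 → S.amode i) := by
          by_cases hB : ∃ i, S.rem i = 1 ∧ ¬ S.amode i
          · obtain ⟨i, h1, h2⟩ := hB; exact ⟨i, h1, fun h => absurd h h2⟩
          · push Not at hB
            obtain ⟨i, h1⟩ := hone
            exact ⟨i, h1, fun _ => hB⟩
        set S' := S.cons L c 1 False False with hS'
        have hsurj := QuotientGroup.mk'_surjective N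
        have hq : ∀ z, (S'.quot N).InT z → (cen z).index ≤ p ^ (2 * (c + 1) - r - 1) := by
          intro z hz
          obtain ⟨g, rfl⟩ := hsurj z
          have hg := (Items.quot_inT (S := S') hNM (hNcons _ _ _ _) g).1 hz
          obtain ⟨a, ha, hb⟩ := inT_bound hG hP hyM hyL hr
            (t := g) ⟨hg.1, fun i => hg.2 (some i)⟩ (hg.2 none)
          rw [cenMod, index_comap_of_surjective _ hsurj] at ha
          exact le_of_eq_of_le ha (Nat.pow_le_pow_right hp.1.pos (by omega))
        have hA : (S'.quot N).amode (some i1) → ∀ o, 2 ≤ (S'.quot N).wt p o := by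
          intro ha o
          have ha' : S.amode i1 := by
            change False ∨ S.amode i1 at ha; simpa using ha
          cases o with
          | none =>
            rw [wt_of_not (S'.quot N) (i := none) not_false]
            change 2 ≤ p ^ c
            exact hp.1.two_le.trans (Nat.le_self_pow (by omega) p)
          | some i =>
            by_cases h : S.amode i
            · rw [wt_of (S'.quot N) (i := some i) (Or.inr h)]
              exact Nat.le_mul_of_pos_right _ (pow_pos hp.1.pos _)
            · rw [wt_of_not (S'.quot N) (i := some i) (by rintro (h' | h') <;> [exact h'; exact h h'])]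
              change 2 ≤ p ^ (S.rem i - 1)
              refine hp.1.two_le.trans (Nat.le_self_pow ?_ p)
              have := hrem1 i
              have : S.rem i ≠ 1 := fun h1 => h (hpref ha' i h1)
              omega
        have hi1M : ¬ (S'.quot N).L (some i1) ≤ (S'.quot N).M := by
          intro h
          refine hclean i1 fun x hx => ?_
          exact (mem_map_mk hNM x).1 (h ((mem_map_mk (hNcons c 1 False False (some i1)) x).2 hx))
        have h1 := remove (hG.to_quotient N)
          (fun U hU => hIH U ((card_lt_of_index hU).trans (card_quotient_lt N hNbot))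
            ((hG.to_quotient N).to_subgroup U))
          (Items.quot_shape hsh hNM (hNcons _ _ _ _)) (Items.quot_pred hpr hNM (hNcons _ _ _ _))
          (some i1) hi1M hq hA
        refine (card_commutator_bound_quot N hNcard h1).trans (Nat.pow_le_pow_right hp.1.pos ?_)
        have h3 : (S'.quot N).reserve c = S.reserve (c + 1) := by
          change (∑ o : Option ι, _) = _
          rw [Fintype.sum_option]
          change c - c + _ = _
          rw [Nat.sub_self, zero_add]
          refine Finset.sum_congr rfl fun i _ => ?_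
          change c - (S.rem i - 1) = _
          have := hrem1 i; omega
        have h4 : c - (S'.quot N).rem (some i1) = c := by
          change c - (S.rem i1 - 1) = c
          rw [hi1]; omega
        have h5 : c ≤ S.reserve (c + 1) := by
          have := Finset.single_le_sum (f := fun i => c + 1 - S.rem i) (fun i _ => Nat.zero_le _)
            (Finset.mem_univ i1)
          simp only [hi1] at this
          rw [Items.reserve]; omega
        rw [h3, h4, tri]; omega
      · push Not at hone
        have hrem2 : ∀ i, 2 ≤ S.rem i := fun i => by have := hrem1 i; have := hone i; omega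
        obtain ⟨hsh', hpr'⟩ := conversion hG hS hP hyp hyM hyL hr hj (by omega) (by omega) hrem2
        rw [← hLdef] at hsh' hpr'
        have h1 := hIHQ (c + 1 - (j + 1)) _ _ (Items.quot_shape hsh' hNM (hNcons _ _ _ _))
          (Items.quot_pred hpr' hNM (hNcons _ _ _ _))
        refine (card_commutator_bound_quot N hNcard h1).trans (Nat.pow_le_pow_right hp.1.pos ?_)
        have h2 : ((S.cons L 0 (j + 1) True True).quot N).reserve (c + 1 - (j + 1))
            ≤ (c + 1 - (j + 1)) + S.reserve (c + 1) := by
          change (∑ o : Option ι, _) ≤ _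
          rw [Fintype.sum_option]
          refine Nat.add_le_add (Nat.sub_le _ _) (Finset.sum_le_sum fun i _ => ?_)
          change c + 1 - (j + 1) - (S.rem i - (j + 1)) ≤ _
          have := hS.hrem i
          omega
        have h3 : tri (c + 1 - (j + 1)) + (2 * c + 1) ≤ tri (c + 1) := by
          obtain ⟨c', rfl⟩ : ∃ c', c = c' + 1 := ⟨c - 1, by omega⟩
          have := tri_mono (show c' + 1 + 1 - (j + 1) ≤ c' by omega)
          simp only [tri]; omega
        omega

theorem bound_all [hp : Fact p.Prime] :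
    ∀ (n : ℕ) (G : Type u) [Group G] [Finite G], Nat.card G = n → IsPGroup p G → Bound p G := by
  intro n
  induction n using Nat.strong_induction_on with
  | _ n ih =>
    intro G _ _ hn hG c ι _ S hS hP
    by_cases hab : center G = ⊤
    · have : commutator G = ⊥ := by
        rw [_root_.commutator_def, eq_bot_iff, Subgroup.commutator_le]
        intro a _ b _
        rw [mem_bot, commutatorElement_eq_one_iff_mul_comm]
        exact (mem_center_iff.1 (hab ▸ mem_top b) a)
      rw [this, card_bot]
      exact Nat.one_le_pow _ _ hp.1.pos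
    · obtain ⟨P, hPi⟩ : ∃ P : ι → Prop, ∀ i, P i ↔ ¬ S.L i ≤ S.M := ⟨_, fun i => Iff.rfl⟩
      refine (bound_step hG (fun H _ _ hH hHp => ih _ (hn ▸ hH) H rfl hHp)
        (Items.sub_shape hS P) (Items.sub_pred hP P fun i hi => not_not.1 fun h => hi ((hPi i).2 h))
        (fun i => (hPi i.1).1 i.2) hab).trans ?_
      exact Nat.pow_le_pow_right hp.1.pos (Nat.add_le_add_left (Items.sub_reserve S P) _)

/-- Vaughan-Lee's theorem, in the stronger form with a maximal subgroup -/
theorem card_commutator_le_of_outside [Finite G] [hp : Fact p.Prime] (hG : IsPGroup p G)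
    {M : Subgroup G} (hM : M.index = p) (b : ℕ)
    (hb : ∀ g, g ∉ M → (centralizer ({g} : Set G)).index ≤ p ^ b) :
    Nat.card (commutator G) ≤ p ^ (b * (b + 1) / 2) := by
  let S : Items G Empty := ⟨M, Empty.elim, Empty.elim, Empty.elim⟩
  have h := bound_all (p := p) _ G rfl hG b Empty S
    ⟨hM, fun i => i.elim, fun i => i.elim, by
      rw [Finset.sum_eq_zero (fun i _ => i.elim)]; exact out_top_pos hM⟩
    (by
      intro g hg R hR K _
      have : R = ∅ := Finset.eq_empty_of_forall_notMem fun i => i.elim
      rw [this, Finset.inf_empty, inf_top_eq]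
      exact (hb g hg.1).trans (Nat.pow_le_pow_right hp.1.pos (Nat.le_add_right _ _)))
  simpa [Items.reserve, ← tri_eq] using h

end Breadth66
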