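import Cfsg.Agent.Lib.Breadth66.State

/-!
The restriction move: one exceptional subgroup is removed at the price of one pivot.
-/

set_option autoImplicit false

open Subgroup Finset
open scoped Classical commutatorElement

namespace Breadth66

universe u

variable {G : Type u} [Group G] {p : ℕ}

/-- the statement proved by induction on the order of the group -/
def Bound (p : ℕ) (G : Type u) [Group G] : Prop :=
  ∀ (c : ℕ) (ι : Type) [Fintype ι] (S : Items G ι), S.Shape p c → S.Pred p c cen →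
    Nat.card (commutator G) ≤ p ^ (tri c + S.reserve c)

theorem zpow_mem_iff_dvd [Finite G] [hp : Fact p.Prime] (hG : IsPGroup p G) {U : Subgroup G}
    (hU : U.index = p) {z : G} (hz : z ∉ U) (n : ℤ) : z ^ n ∈ U ↔ (p : ℤ) ∣ n := by
  haveI := normal_of_index_p hG hU
  have h1 : orderOf (z : G ⧸ U) = p := by
    have h2 : orderOf (z : G ⧸ U) ∣ p := by
      have h3 := orderOf_dvd_natCard (z : G ⧸ U)
      rwa [show Nat.card (G ⧸ U) = p from hU] at h3
    rcases (Nat.dvd_prime hp.1).1 h2 with h | h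
    · exact absurd ((QuotientGroup.eq_one_iff z).1 (orderOf_eq_one_iff.1 h)) hz
    · exact h
  rw [← h1, orderOf_dvd_iff_zpow_eq_one, ← QuotientGroup.mk_zpow, QuotientGroup.eq_one_iff]

theorem exists_lift [Finite G] [hp : Fact p.Prime] (hG : IsPGroup p G) {U L : Subgroup G}
    (hU : U.index = p) (hL : PhiLE p L) (K' : Subgroup U) (hLK : L.subgroupOf U ≤ K')
    (hK : K'.index ≤ p) :
    ∃ K : Subgroup G, L ≤ K ∧ K.index ≤ p ∧ K.subgroupOf U ≤ K' := by
  have hUφ := phiLE_of_index_p hG hU
  haveI hUn := normal_of_index_p hG hU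
  set K'' := K'.map U.subtype with hK''
  have hLU : L ⊓ U ≤ K'' := fun x hx => ⟨⟨x, hx.2⟩, hLK hx.1, rfl⟩
  have hK''φ : PhiLE p K'' := (hL.inf hUφ).mono hLU
  haveI := hK''φ.normal
  obtain ⟨z, hzU, hzL⟩ : ∃ z, z ∉ U ∧ (L ≤ U ∨ z ∈ L) := by
    by_cases hle : L ≤ U
    · obtain ⟨z, hz⟩ : ∃ z, z ∉ U := by
        by_contra hc
        push Not at hc
        have : U = ⊤ := eq_top_iff.2 fun x _ => hc x
        rw [this, index_top] at hU
        exact hp.1.one_lt.ne hU
      exact ⟨z, hz, Or.inl hle⟩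
    · obtain ⟨z, hz, hzU⟩ := SetLike.not_le_iff_exists.1 hle
      exact ⟨z, hzU, Or.inr hz⟩
  have hsup : ∀ x : G, x ∈ K'' ⊔ zpowers z → x ∈ U → x ∈ K'' := by
    intro x hx hxU
    obtain ⟨k, hk, w, ⟨n, rfl⟩, rfl⟩ := (mem_sup_of_normal_left).1 hx
    obtain ⟨k0, hk0, rfl⟩ := hk
    have hn : z ^ n ∈ U := by
      have := U.mul_mem (U.inv_mem k0.2) hxU
      simpa using this
    obtain ⟨m, rfl⟩ := (zpow_mem_iff_dvd hG hU hzU n).1 hn
    refine K''.mul_mem ⟨k0, hk0, rfl⟩ ?_
    simp only [zpow_mul, zpow_natCast]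
    exact K''.zpow_mem (hK''φ.2 z) m
  refine ⟨K'' ⊔ zpowers z, ?_, ?_, ?_⟩
  · rcases hzL with hle | hz
    · exact fun x hx => mem_sup_left (hLU ⟨hx, hle hx⟩)
    · intro x hx
      have htop : U ⊔ zpowers z = ⊤ :=
        maximal_of_index hU le_sup_left (fun h => hzU (h (mem_sup_right (mem_zpowers z))))
      obtain ⟨a, ha, w, ⟨n, rfl⟩, rfl⟩ :=
        (mem_sup_of_normal_left).1 (htop.symm ▸ mem_top x : x ∈ U ⊔ zpowers z)
      have haL : a ∈ L := by
        have := L.mul_mem hx (L.inv_mem (L.zpow_mem hz n))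
        simpa using this
      exact (K'' ⊔ zpowers z).mul_mem (mem_sup_left (hLU ⟨haL, ha⟩))
        (mem_sup_right ⟨n, rfl⟩)
  · have h1 : K''.index = K'.index * p := by
      rw [hK'', index_map_subtype, hU]
    have h2 := index_drop hG (le_sup_left : K'' ≤ K'' ⊔ zpowers z)
      (fun h => hzU (by
        obtain ⟨k0, -, hk⟩ := h (mem_sup_right (mem_zpowers z))
        exact hk ▸ k0.2))
    rw [h1] at h2
    exact (Nat.le_of_mul_le_mul_right h2 hp.1.pos).trans hK
  · intro x hx
    obtain ⟨k0, hk0, hk⟩ := hsup x.1 hx x.2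
    rwa [← Subtype.ext hk]

/-- restriction of the items to a subgroup, forgetting the item `i0` -/
def Items.res {ι : Type} (S : Items G ι) (U : Subgroup G) (i0 : ι) : Items U {i // i ≠ i0} :=
  ⟨S.M.subgroupOf U, fun i => (S.L i.1).subgroupOf U, fun i => S.rem i.1, fun i => S.amode i.1⟩

theorem remove [Finite G] [hp : Fact p.Prime] (hG : IsPGroup p G)
    (hIH : ∀ U : Subgroup G, U.index = p → Bound p U) {ι : Type} [Fintype ι] {c q : ℕ}
    {S : Items G ι} (hS : S.Shape p c) (hP : S.Pred p c cen) (i0 : ι) (hi0 : ¬ S.L i0 ≤ S.M)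
    (hq : ∀ t, S.InT t → (cen t).index ≤ p ^ q) (hA : S.amode i0 → ∀ i, 2 ≤ S.wt p i) :
    Nat.card (commutator G) ≤ p ^ (q + (tri c + (S.reserve c - (c - S.rem i0)))) := by
  obtain ⟨d, hdM, hdA, hdB⟩ : ∃ d, d ∉ S.M ∧ (S.amode i0 → d ∈ S.L i0) ∧
      (¬ S.amode i0 → S.InT d) := by
    by_cases ha : S.amode i0
    · obtain ⟨d, hd1, hd2⟩ := SetLike.not_le_iff_exists.1 hi0
      exact ⟨d, hd2, fun _ => hd1, fun h => absurd ha h⟩
    · obtain ⟨d, hd⟩ := hS.exists_inT
      exact ⟨d, hd.1, fun h => absurd h ha, fun _ => hd⟩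
  have hl : out S.M (S.L i0) * (S.L i0).index = out S.M ⊤ := out_mul_index hG hS.hM hi0
  have hsplit : (∑ i, S.wt p i * out S.M (S.L i)) = S.wt p i0 * out S.M (S.L i0) +
      ∑ i : {i // i ≠ i0}, S.wt p i.1 * out S.M (S.L i.1) :=
    Fintype.sum_eq_add_sum_subtype_ne (fun i => S.wt p i * out S.M (S.L i)) i0
  obtain ⟨U, hU, hQU, hdU, hUM, hsum⟩ := exists_subgroup_avg hG hS.hM (hS.hL i0) hi0 hdM
    (fun i : {i // i ≠ i0} => S.L i.1) (fun i => S.wt p i.1) (by
      have h1 := hS.hwt
      rw [hsplit] at h1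
      have hpos : 0 < (S.L i0).index := Nat.pos_of_ne_zero index_ne_zero_of_finite
      have h2 := Nat.mul_lt_mul_of_pos_left h1 hpos
      rw [mul_add, mul_left_comm, mul_comm (S.L i0).index (out _ _), hl] at h2
      have h3 : out S.M ⊤ ≤ S.wt p i0 * out S.M ⊤ := Nat.le_mul_of_pos_left _ (S.one_le_wt i0)
      omega)
  -- the pivot
  obtain ⟨e, heT, heU⟩ : ∃ e, S.InT e ∧ e ∉ U := by
    by_cases ha : S.amode i0
    · exact hS.exists_inT_notMem hG (hA ha) (fun h => hdU (h.symm ▸ mem_top d))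
    · exact ⟨d, hdB ha, hdU⟩
  have hUnle : ¬ U ≤ S.M := fun h => by
    by_cases h' : S.M ≤ U
    · exact hUM (le_antisymm h h')
    · have := maximal_of_index hU h h'
      have h2 := hS.hM
      rw [this, index_top] at h2
      exact hp.1.one_lt.ne h2
  have houtU : out S.M U * p = out S.M ⊤ := by
    conv_lhs => rw [← hU]
    exact out_mul_index hG hS.hM hUnle
  have hrelU : ∀ X : Subgroup G, (X ⊓ U).index = X.relIndex U * p := fun X => by
    rw [← relIndex_mul_index (inf_le_right : X ⊓ U ≤ U), inf_relIndex_right, hU]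
  -- an element of `U` in the removed subgroup forces containment
  have hin : ∀ g, g ∈ U → g ∉ S.M → g ∈ S.L i0 → S.L i0 ≤ U ∧ ¬ S.amode i0 := by
    intro g hgU hgM hgL
    have hQ : S.M ⊓ S.L i0 ≤ S.L i0 ⊓ U := le_inf inf_le_right hQU
    have h1 := index_drop hG hQ (fun h => hgM (h ⟨hgL, hgU⟩).1)
    have h2 : (S.M ⊓ S.L i0).index = p * (S.L i0).index := by
      rw [← relIndex_mul_index (inf_le_right : S.M ⊓ S.L i0 ≤ S.L i0), inf_relIndex_right,
        relIndex_of_not_le hG hS.hM hi0]
    rw [h2, mul_comm p] at h1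
    have h3 := Nat.le_of_mul_le_mul_right h1 hp.1.pos
    have hle : S.L i0 ≤ U := by
      by_contra h4
      have h5 := index_drop hG (inf_le_left : S.L i0 ⊓ U ≤ S.L i0)
        (fun h => h4 (h.trans inf_le_right))
      have h6 : 0 < (S.L i0).index := Nat.pos_of_ne_zero index_ne_zero_of_finite
      have h7 := h5.trans h3
      nlinarith [hp.1.two_le]
    exact ⟨hle, fun ha => hdU (hle (hdA ha))⟩
  have hshape : (S.res U i0).Shape p c := by
    refine ⟨?_, fun i => ⟨?_, fun g => ?_⟩, fun i => hS.hrem _, ?_⟩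
    · change S.M.relIndex U = p
      exact relIndex_of_not_le hG hS.hM hUnle
    · rw [_root_.commutator_def, Subgroup.commutator_le]
      intro a _ b _
      change (⁅(a : G), (b : G)⁆) ∈ S.L i.1
      refine (hS.hL i.1).1 ?_
      rw [_root_.commutator_def]; exact commutator_mem_commutator (mem_top _) (mem_top _)
    · change ((g ^ p : U) : G) ∈ S.L i.1
      rw [SubgroupClass.coe_pow]; exact (hS.hL i.1).2 _
    · have h1 : out (S.res U i0).M ⊤ = out S.M U := by
        rw [← subgroupOf_self U, Items.res, out_subgroupOf, inf_idem]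
      rw [h1]
      refine Nat.lt_of_mul_lt_mul_left (a := p) ?_
      rw [mul_comm p (out S.M U), houtU]
      refine lt_of_eq_of_lt ?_ hsum
      congr 1
      refine Finset.sum_congr rfl fun i _ => ?_
      rw [Items.res, out_subgroupOf]
      rfl
  have hpred : (S.res U i0).Pred p c cen := by
    intro g hg R hR K hK
    have hgM : (g : G) ∉ S.M := hg.1
    have hgood : S.Good g := by
      refine ⟨hgM, fun i ha hi => ?_⟩
      by_cases h : i = i0
      · subst h; exact (hin g g.2 hgM hi).2 ha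
      · exact hg.2 ⟨i, h⟩ ha hi
    have hlk : ((S.res U i0).lack g).map (Function.Embedding.subtype _) = (S.lack g).erase i0 := by
      ext i
      simp only [Items.lack, Items.res, Finset.mem_map, Finset.mem_filter, Finset.mem_univ, true_and,
        Finset.mem_erase, Function.Embedding.coe_subtype]
      refine ⟨?_, fun h => ⟨⟨i, h.1⟩, Finset.mem_filter.2 ⟨Finset.mem_univ _, mem_subgroupOf.2 h.2⟩, rfl⟩⟩
      rintro ⟨j, hj, rfl⟩
      exact ⟨j.2, mem_subgroupOf.1 (Finset.mem_filter.1 hj).2⟩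
    have hcard := congrArg Finset.card hlk
    rw [Finset.card_map] at hcard
    choose Kl hKl using fun i : {i // i ≠ i0} => fun hi : i ∈ R =>
      exists_lift hG hU (hS.hL i.1) (K i) (hK i hi).1 (hK i hi).2
    let K1 : ι → Subgroup G := fun i =>
      if h : ∃ j ∈ R, (j : ι) = i then Kl h.choose h.choose_spec.1 else U
    have hK1 : ∀ j (hj : j ∈ R), K1 j.1 = Kl j hj := by
      intro j hj
      have h : ∃ j' ∈ R, (j' : ι) = j.1 := ⟨j, hj, rfl⟩
      simp only [K1, dif_pos h]
      congr
      exact Subtype.ext h.choose_spec.2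
    have hK1i0 : K1 i0 = U := by
      simp only [K1]
      rw [dif_neg]
      rintro ⟨j, -, hj⟩
      exact j.2 hj
    set R1 := R.map (Function.Embedding.subtype _) with hR1
    have hR1sub : R1 ⊆ (S.lack g).erase i0 := hlk ▸ Finset.map_subset_map.2 hR
    have hK1ok : ∀ i ∈ R1, S.L i ≤ K1 i ∧ (K1 i).index ≤ p := by
      intro i hi
      obtain ⟨j, hj, rfl⟩ := Finset.mem_map.1 hi
      rw [Function.Embedding.coe_subtype, hK1 j hj]
      exact ⟨(hKl j hj).1, (hKl j hj).2.1⟩
    set X := cen (g : G) ⊓ R1.inf K1 with hX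
    have hXle : X.subgroupOf U ≤ cen g ⊓ R.inf K := by
      intro x hx
      obtain ⟨hx1, hx2⟩ := hx
      refine ⟨?_, ?_⟩
      · exact mem_cen.2 (Subtype.ext (mem_cen.1 hx1))
      · have : ∀ R' : Finset {i // i ≠ i0}, R' ⊆ R → x ∈ R'.inf K := by
          intro R'
          induction R' using Finset.induction_on with
          | empty => intro _; simp
          | insert a s _ ih =>
            intro hs
            rw [Finset.inf_insert]
            have ha : a ∈ R := hs (Finset.mem_insert_self _ _)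
            refine ⟨(hKl a ha).2.2 ?_, ih fun y hy => hs (Finset.mem_insert_of_mem hy)⟩
            have h3 : R1.inf K1 ≤ K1 a.1 := Finset.inf_le (Finset.mem_map_of_mem _ ha)
            rw [mem_subgroupOf, ← hK1 a ha]
            exact h3 hx2
        exact this R Finset.Subset.rfl
    refine le_trans (Nat.le_of_dvd (Nat.pos_of_ne_zero index_ne_zero_of_finite)
      (index_dvd_of_le hXle)) ?_
    change X.relIndex U ≤ _
    by_cases hgi : (g : G) ∈ S.L i0
    · have hmem : i0 ∈ S.lack (g : G) := Finset.mem_filter.2 ⟨Finset.mem_univ _, hgi⟩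
      have h1 := hP g hgood (insert i0 R1) (Finset.insert_subset hmem
        (hR1sub.trans (Finset.erase_subset _ _))) K1 (by
          intro i hi
          rcases Finset.mem_insert.1 hi with rfl | hi
          · rw [hK1i0]; exact ⟨(hin g g.2 hgM hgi).1, hU.le⟩
          · exact hK1ok i hi)
      rw [Finset.inf_insert, hK1i0, inf_left_comm, inf_comm, hrelU] at h1
      rw [Finset.card_erase_of_mem hmem] at hcard
      have hpos : 0 < (S.lack (g : G)).card := Finset.card_pos.2 ⟨i0, hmem⟩
      rw [show c + (S.lack (g : G)).card = (c + ((S.res U i0).lack g).card) + 1 by omega,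
        pow_succ] at h1
      exact Nat.le_of_mul_le_mul_right h1 hp.1.pos
    · have h1 := hP g hgood R1 (hR1sub.trans (Finset.erase_subset _ _)) K1 hK1ok
      have hnot : i0 ∉ S.lack (g : G) := fun h => hgi (Finset.mem_filter.1 h).2
      rw [Finset.erase_eq_of_notMem hnot] at hcard
      rw [hcard]
      refine le_trans ?_ h1
      refine le_of_le_of_eq (relIndex_le_of_le_right (le_top : U ≤ ⊤) ?_) (relIndex_top_right _)
      rw [relIndex_top_right]; exact index_ne_zero_of_finite
  refine (card_commutator_le_pivot hG hU heU).trans ?_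
  have hres : S.reserve c - (c - S.rem i0) = (S.res U i0).reserve c := by
    have h := Fintype.sum_eq_add_sum_subtype_ne (fun i => c - S.rem i) i0
    change (∑ i, (c - S.rem i)) - (c - S.rem i0) = ∑ i : {i // i ≠ i0}, (c - S.rem i.1)
    rw [h]; exact Nat.add_sub_cancel_left _ _
  rw [hres, pow_add]
  exact Nat.mul_le_mul (hq e heT) (hIH U hU c _ (S.res U i0) hshape hpred)

end Breadth66
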