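import Cfsg.Agent.Lib.Breadth66.Basic

/-!
Averaging over maximal subgroups `U` containing `M ⊓ L` and missing a given element.
-/

set_option autoImplicit false

open Subgroup Finset
open scoped Classical commutatorElement

namespace Breadth66

variable {G : Type*} [Group G] [Finite G] {p : ℕ}

/-- fibres of a linear form on a set of functionals closed under translation -/
theorem fibre_card [hp : Fact p.Prime] {V : Type*} [AddCommGroup V] [Module (ZMod p) V]
    (S : Finset V) (ev : V →ₗ[ZMod p] ZMod p) (χ : V) (hχ : ev χ = 1)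
    (hS : ∀ φ ∈ S, ∀ a : ZMod p, φ + a • χ ∈ S) (b : ZMod p) :
    p * (S.filter fun φ => ev φ = b).card = S.card := by
  haveI : NeZero p := ⟨hp.1.ne_zero⟩
  have h : ∀ a : ZMod p, (S.filter fun φ => ev φ = a).card = (S.filter fun φ => ev φ = b).card := by
    intro a
    refine Finset.card_bij' (fun φ _ => φ + (b - a) • χ) (fun φ _ => φ + (a - b) • χ) ?_ ?_ ?_ ?_
    · intro φ hφ
      rw [Finset.mem_filter] at hφ ⊢
      exact ⟨hS φ hφ.1 _, by rw [map_add, map_smul, hχ, hφ.2]; simp⟩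
    · intro φ hφ
      rw [Finset.mem_filter] at hφ ⊢
      exact ⟨hS φ hφ.1 _, by rw [map_add, map_smul, hχ, hφ.2]; simp⟩
    · intro φ _
      rw [add_assoc, ← add_smul]; simp
    · intro φ _
      rw [add_assoc, ← add_smul]; simp
  conv_rhs =>
    rw [Finset.card_eq_sum_card_fiberwise (f := fun φ => ev φ) (t := Finset.univ)
      (fun x _ => Finset.mem_univ _), Finset.sum_congr rfl (fun a _ => h a), Finset.sum_const,
      Finset.card_univ, ZMod.card, smul_eq_mul]

theorem sum_card_out {ι : Type*} [Fintype ι] [Fintype G] (M : Subgroup G) (L : ι → Subgroup G)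
    (w : ι → ℕ) (P : Finset G) (U : Subgroup G) (hP : ∀ x, x ∈ P ↔ x ∈ U) :
    ∑ x ∈ P, (∑ i, if x ∈ L i ∧ x ∉ M then w i else 0) = ∑ i, w i * out M (L i ⊓ U) := by
  rw [Finset.sum_comm]
  refine Finset.sum_congr rfl fun i _ => ?_
  rw [← Finset.sum_filter, Finset.sum_const, smul_eq_mul, mul_comm]
  congr 1
  rw [out, ← Nat.card_eq_finsetCard]
  refine Nat.card_congr (Equiv.subtypeEquivRight fun x => ?_)
  rw [Finset.mem_filter, hP, Subgroup.mem_inf]
  tauto

theorem exists_subgroup_avg_aux [hp : Fact p.Prime] (hG : IsPGroup p G) {M L : Subgroup G}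
    (hM : M.index = p) (hL : PhiLE p L) (hLM : ¬ L ≤ M) {d : G} (hd : d ∉ M)
    {ι : Type*} [Fintype ι] (L' : ι → Subgroup G) (w : ι → ℕ)
    (hb : L.index * (∑ i, w i * out M (L' i)) + out M ⊤ < L.index * out M ⊤)
    {V : Type*} [AddCommGroup V] [Module (ZMod p) V] [Finite V] {Q : Subgroup G} (hQ : Q = M ⊓ L)
    (v : G → V) (hvmul : ∀ a b, v (a * b) = v a + v b) (hv0 : ∀ g, v g = 0 ↔ g ∈ Q)
    (hsurj : Function.Surjective v) (hcardV : Nat.card V = Q.index) :
    ∃ U : Subgroup G, U.index = p ∧ Q ≤ U ∧ d ∉ U ∧ U ≠ M ∧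
      p * (∑ i, w i * out M (L' i ⊓ U)) < out M ⊤ := by
  letI := Fintype.ofFinite G
  haveI : NeZero p := ⟨hp.1.ne_zero⟩
  haveI : Module.Finite (ZMod p) V := Module.Finite.of_finite
  haveI : Finite (Module.Dual (ZMod p) V) := by exact DFunLike.finite _
  letI := Fintype.ofFinite (Module.Dual (ZMod p) V)
  have hdual : Fintype.card (Module.Dual (ZMod p) V) = Q.index := by
    letI := Fintype.ofFinite V
    have h2 : Q.index = Fintype.card V := by
      rw [← Nat.card_eq_fintype_card, hcardV]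
    rw [h2, Module.card_eq_pow_finrank (K := ZMod p),
      Module.card_eq_pow_finrank (K := ZMod p) (V := V),
      Subspace.dual_finrank_eq]
  have hdQ : v d ≠ 0 := fun h => hd ((hQ ▸ inf_le_left : Q ≤ M) ((hv0 d).1 h))
  -- the affine set of functionals taking the value one at `d`
  let evd : Module.Dual (ZMod p) V →ₗ[ZMod p] ZMod p :=
    LinearMap.applyₗ (v d)
  have hex : ∀ x : V, x ≠ 0 → ∀ W : Submodule (ZMod p) (V), x ∉ W →
      ∃ χ : Module.Dual (ZMod p) V, χ x = 1 ∧ ∀ y ∈ W, χ y = 0 := by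
    intro x _ W hx
    obtain ⟨φ, hφx, hφW⟩ := Submodule.exists_dual_map_eq_bot_of_notMem hx inferInstance
    refine ⟨(φ x)⁻¹ • φ, ?_, fun y hy => ?_⟩
    · simp [hφx]
    · have : φ y ∈ W.map φ := Submodule.mem_map_of_mem hy
      rw [hφW, Submodule.mem_bot] at this
      simp [this]
  obtain ⟨χ0, hχ0, -⟩ := hex (v d) hdQ ⊥ (by simpa using hdQ)
  set A := (Finset.univ : Finset (Module.Dual (ZMod p) V)).filter
    fun φ => evd φ = 1 with hA
  have hAcard : p * A.card = Q.index := by
    rw [hA, fibre_card Finset.univ evd χ0 hχ0 (fun _ _ _ => Finset.mem_univ _), Finset.card_univ,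
      hdual]
  have hAL : A.card = L.index := by
    have h1 : Q.relIndex L * L.index = Q.index := relIndex_mul_index (hQ ▸ inf_le_right)
    rw [hAcard.symm, hQ, inf_relIndex_right, relIndex_of_not_le hG hM hLM] at h1
    exact (Nat.eq_of_mul_eq_mul_left hp.1.pos h1).symm
  have hmemA : ∀ φ, φ ∈ A ↔ φ (v d) = 1 := fun φ => by
    rw [hA, Finset.mem_filter]; exact ⟨fun h => h.2, fun h => ⟨Finset.mem_univ _, h⟩⟩
  -- kernels
  let Ψ : Module.Dual (ZMod p) V → (G →* Multiplicative (ZMod p)) := fun φ =>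
    MonoidHom.mk' (fun g => Multiplicative.ofAdd (φ (v g)))
      (fun a b => by rw [hvmul, map_add, ofAdd_add])
  let U := fun φ => (Ψ φ).ker
  have hmemU : ∀ φ g, g ∈ U φ ↔ φ (v g) = 0 := fun φ g => MonoidHom.mem_ker.trans ofAdd_eq_one
  have hUidx : ∀ φ ∈ A, (U φ).index = p := by
    intro φ hφ
    rw [index_ker]
    have : (Ψ φ).range = ⊤ := by
      refine eq_top_iff.2 fun z _ => ⟨d ^ (z.toAdd).val, ?_⟩
      rw [map_pow]
      change (Multiplicative.ofAdd (φ (v d))) ^ (z.toAdd).val = z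
      rw [(hmemA φ).1 hφ, ← ofAdd_nsmul, nsmul_one, ZMod.natCast_zmod_val]
      exact ofAdd_toAdd z
    rw [this, card_top, Nat.card_congr Multiplicative.toAdd, Nat.card_zmod]
  have hUQ : ∀ φ, Q ≤ U φ := fun φ g hg => (hmemU φ g).2 (by rw [(hv0 g).2 hg, map_zero])
  set opts := A.filter fun φ => U φ ≠ M with hopts
  have hone : (A.filter fun φ => ¬ U φ ≠ M).card ≤ 1 := by
    refine Finset.card_le_one.2 fun φ hφ ψ hψ => ?_
    rw [Finset.mem_filter, not_not] at hφ hψ
    have hker : ∀ g, φ (v g) = ψ (v g) := by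
      have hle : M ≤ U (φ - ψ) := fun g hg => (hmemU _ g).2 (by
        rw [LinearMap.sub_apply, (hmemU φ g).1 (hφ.2.symm ▸ hg), (hmemU ψ g).1 (hψ.2.symm ▸ hg),
          sub_zero])
      have hdin : d ∈ U (φ - ψ) := (hmemU _ d).2 (by
        rw [LinearMap.sub_apply, (hmemA φ).1 hφ.1, (hmemA ψ).1 hψ.1, sub_self])
      have htop := maximal_of_index hM hle (fun h => hd (h hdin))
      intro g
      have := (hmemU (φ - ψ) g).1 (htop.symm ▸ mem_top g)
      rwa [LinearMap.sub_apply, sub_eq_zero] at this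
    refine LinearMap.ext fun z => ?_
    obtain ⟨g, rfl⟩ := hsurj z
    exact hker g
  have hoptscard : L.index ≤ opts.card + 1 := by
    rw [← hAL, ← Finset.card_filter_add_card_filter_not (s := A) (fun φ => U φ ≠ M)]
    exact Nat.add_le_add_left hone _
  -- a point lies in at most a fraction `1/p` of the kernels
  have hpt : ∀ x ∉ M, p * (opts.filter fun φ => x ∈ U φ).card ≤ L.index := by
    intro x hx
    by_cases hspan : v x ∈ Submodule.span (ZMod p) {v d}
    · obtain ⟨k, hk⟩ := Submodule.mem_span_singleton.1 hspan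
      have : (opts.filter fun φ => x ∈ U φ) = ∅ := by
        refine Finset.filter_eq_empty_iff.2 fun φ hφ hxU => ?_
        have h1 : φ (v x) = k := by
          rw [← hk, map_smul, (hmemA φ).1 (Finset.mem_filter.1 hφ).1, smul_eq_mul, mul_one]
        rw [(hmemU φ x).1 hxU] at h1
        exact hx ((hQ ▸ inf_le_left : Q ≤ M) ((hv0 x).1 (by rw [← hk, ← h1, zero_smul])))
      rw [this]; simp
    · obtain ⟨χ, hχx, hχW⟩ := hex (v x) (fun h => hspan (h ▸ Submodule.zero_mem _)) _ hspan
      have hχd := hχW _ (Submodule.mem_span_singleton_self _)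
      have hS : ∀ φ ∈ A, ∀ a : ZMod p, φ + a • χ ∈ A := fun φ hφ a => by
        rw [hmemA, LinearMap.add_apply, LinearMap.smul_apply, hχd, smul_zero, add_zero]
        exact (hmemA φ).1 hφ
      rw [← hAL, ← fibre_card A (LinearMap.applyₗ (v x)) χ hχx hS 0]
      refine Nat.mul_le_mul_left _ (Finset.card_le_card fun φ hφ => ?_)
      rw [Finset.mem_filter] at hφ ⊢
      exact ⟨(Finset.mem_filter.1 hφ.1).1, (hmemU φ x).1 hφ.2⟩
  set f : G → ℕ := fun x => ∑ i, if x ∈ L' i ∧ x ∉ M then w i else 0 with hf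
  have hfU : ∀ φ, ∑ x ∈ Finset.univ.filter (fun x => x ∈ U φ), f x
      = ∑ i, w i * out M (L' i ⊓ U φ) := fun φ => sum_card_out M L' w _ _ (by simp)
  have hfall : ∑ x, f x = ∑ i, w i * out M (L' i) := by
    rw [hf, sum_card_out M L' w Finset.univ ⊤ (by simp)]; simp
  by_contra hcon
  push Not at hcon
  have hge : ∀ φ ∈ opts, out M ⊤ ≤ p * ∑ x ∈ Finset.univ.filter (fun x => x ∈ U φ), f x := by
    intro φ hφ
    obtain ⟨hφA, hφM⟩ := Finset.mem_filter.1 hφ
    rw [hfU]
    refine hcon (U φ) (hUidx φ hφA) (hUQ φ) (fun h => ?_) hφM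
    have := (hmemU φ d).1 h
    rw [(hmemA φ).1 hφA] at this
    exact one_ne_zero this
  have hsum : opts.card * out M ⊤ ≤ L.index * ∑ x, f x := by
    calc opts.card * out M ⊤ = ∑ _φ ∈ opts, out M ⊤ := by rw [Finset.sum_const, smul_eq_mul]
      _ ≤ ∑ φ ∈ opts, p * ∑ x ∈ Finset.univ.filter (fun x => x ∈ U φ), f x :=
          Finset.sum_le_sum hge
      _ = ∑ x, p * ((opts.filter fun φ => x ∈ U φ).card * f x) := by
          simp only [Finset.sum_filter, Finset.mul_sum]
          rw [Finset.sum_comm]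
          refine Finset.sum_congr rfl fun x _ => ?_
          simp only [mul_ite, mul_zero]
          rw [← Finset.sum_filter, Finset.sum_const, smul_eq_mul]
          ring
      _ ≤ ∑ x, L.index * f x := by
          refine Finset.sum_le_sum fun x _ => ?_
          by_cases hx : x ∈ M
          · simp [hf, hx]
          · rw [← mul_assoc]; exact Nat.mul_le_mul_right _ (hpt x hx)
      _ = L.index * ∑ x, f x := by rw [Finset.mul_sum]
  rw [hfall] at hsum
  have : L.index * out M ⊤ ≤ opts.card * out M ⊤ + out M ⊤ := by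
    rw [← Nat.succ_mul]; exact Nat.mul_le_mul_right _ hoptscard
  omega

theorem exists_subgroup_avg [hp : Fact p.Prime] (hG : IsPGroup p G) {M L : Subgroup G}
    (hM : M.index = p) (hL : PhiLE p L) (hLM : ¬ L ≤ M) {d : G} (hd : d ∉ M)
    {ι : Type*} [Fintype ι] (L' : ι → Subgroup G) (w : ι → ℕ)
    (hb : L.index * (∑ i, w i * out M (L' i)) + out M ⊤ < L.index * out M ⊤) :
    ∃ U : Subgroup G, U.index = p ∧ M ⊓ L ≤ U ∧ d ∉ U ∧ U ≠ M ∧
      p * (∑ i, w i * out M (L' i ⊓ U)) < out M ⊤ := by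
  set Q := M ⊓ L with hQ
  have hQφ : PhiLE p Q := (phiLE_of_index_p hG hM).inf hL
  haveI := hQφ.normal
  letI icg : CommGroup (G ⧸ Q) :=
    { (inferInstance : Group (G ⧸ Q)) with
      mul_comm := by
        intro a b
        obtain ⟨a, rfl⟩ := QuotientGroup.mk'_surjective Q a
        obtain ⟨b, rfl⟩ := QuotientGroup.mk'_surjective Q b
        rw [← commutatorElement_eq_one_iff_mul_comm, ← map_commutatorElement]
        refine (QuotientGroup.eq_one_iff _).2 (hQφ.1 ?_)
        rw [_root_.commutator_def]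
        exact commutator_mem_commutator (mem_top a) (mem_top b) }
  have hexp : ∀ z : Additive (G ⧸ Q), p • z = 0 := by
    intro z
    obtain ⟨g, hg⟩ := QuotientGroup.mk'_surjective Q z.toMul
    have : z.toMul ^ p = 1 := by
      rw [← hg, ← map_pow]; exact (QuotientGroup.eq_one_iff _).2 (hQφ.2 g)
    rw [← ofMul_toMul z, ← ofMul_pow, this, ofMul_one]
  letI : Module (ZMod p) (Additive (G ⧸ Q)) := AddCommGroup.zmodModule hexp
  haveI : Finite (Additive (G ⧸ Q)) := inferInstanceAs (Finite (G ⧸ Q))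
  haveI : Module.Finite (ZMod p) (Additive (G ⧸ Q)) := Module.Finite.of_finite
  haveI : Finite (Additive (G ⧸ Q)) := inferInstanceAs (Finite (G ⧸ Q))
  exact exists_subgroup_avg_aux hG hM hL hLM hd L' w hb (V := Additive (G ⧸ Q)) hQ
    (fun g => Additive.ofMul (g : G ⧸ Q)) (fun a b => rfl)
    (fun g => by
      change (g : G ⧸ Q) = 1 ↔ _
      exact QuotientGroup.eq_one_iff g)
    (fun z => QuotientGroup.mk'_surjective Q z.toMul) rfl

end Breadth66
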