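import Cfsg.Agent.Lib.Breadth66.Select

/-!
States of the induction: a maximal subgroup together with a list of exceptional subgroups,
each carrying a waiting time, and the two elementary moves (restriction and passing to a
quotient).
-/

set_option autoImplicit false

open Subgroup Finset
open scoped Classical commutatorElement

namespace Breadth66

variable {G : Type*} [Group G] {p : ℕ}

structure Items (G : Type*) [Group G] (ι : Type) where
  M : Subgroup G
  L : ι → Subgroup G
  rem : ι → ℕ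
  amode : ι → Prop

variable {ι : Type} [Fintype ι]

noncomputable def Items.wt (p : ℕ) (S : Items G ι) (i : ι) : ℕ :=
  (if S.amode i then 2 else 1) * p ^ S.rem i

noncomputable def Items.lack (S : Items G ι) (g : G) : Finset ι :=
  Finset.univ.filter fun i => g ∈ S.L i

def Items.Good (S : Items G ι) (g : G) : Prop :=
  g ∉ S.M ∧ ∀ i, S.amode i → g ∉ S.L i

def Items.InT (S : Items G ι) (g : G) : Prop :=
  g ∉ S.M ∧ ∀ i, g ∉ S.L i

/-- the amount still reserved for the delayed steps -/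
def Items.reserve (c : ℕ) (S : Items G ι) : ℕ := ∑ i, (c - S.rem i)

/-- the breadth hypothesis -/
def Items.Pred (p c : ℕ) (C : G → Subgroup G) (S : Items G ι) : Prop :=
  ∀ g, S.Good g → ∀ R : Finset ι, R ⊆ S.lack g → ∀ K : ι → Subgroup G,
    (∀ i ∈ R, S.L i ≤ K i ∧ (K i).index ≤ p) →
      (C g ⊓ R.inf K).index ≤ p ^ (c + (S.lack g).card)

structure Items.Shape (p c : ℕ) (S : Items G ι) : Prop where
  hM : S.M.index = p
  hL : ∀ i, PhiLE p (S.L i)
  hrem : ∀ i, S.rem i ≤ c
  hwt : (∑ i, S.wt p i * out S.M (S.L i)) < out S.M ⊤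

def cen (g : G) : Subgroup G := centralizer ({g} : Set G)

def cenMod (N : Subgroup G) [N.Normal] (g : G) : Subgroup G :=
  (cen (g : G ⧸ N)).comap (QuotientGroup.mk' N)

theorem mem_cen {g h : G} : h ∈ cen g ↔ h * g = g * h := mem_centralizer_singleton_iff

theorem mem_cenMod {N : Subgroup G} [N.Normal] {g h : G} :
    h ∈ cenMod N g ↔ ⁅h, g⁆ ∈ N := by
  rw [cenMod, mem_comap, mem_cen, ← commutatorElement_eq_one_iff_mul_comm]
  change ⁅(h : G ⧸ N), (g : G ⧸ N)⁆ = 1 ↔ _
  rw [show ⁅(h : G ⧸ N), (g : G ⧸ N)⁆ = ((⁅h, g⁆ : G) : G ⧸ N) from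
    (map_commutatorElement (QuotientGroup.mk' N) h g).symm]
  exact QuotientGroup.eq_one_iff _

theorem cen_le_cenMod (N : Subgroup G) [N.Normal] (g : G) : cen g ≤ cenMod N g := fun h hh => by
  rw [mem_cenMod, commutatorElement_eq_one_iff_mul_comm.2 (mem_cen.1 hh)]; exact N.one_mem

theorem Items.InT.good {S : Items G ι} {g : G} (h : S.InT g) : S.Good g :=
  ⟨h.1, fun i _ => h.2 i⟩

theorem Items.InT.lack_eq {S : Items G ι} {g : G} (h : S.InT g) : S.lack g = ∅ :=
  Finset.filter_eq_empty_iff.2 fun i _ => h.2 i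

theorem Items.Pred.le_of_inT {c : ℕ} {C : G → Subgroup G} {S : Items G ι}
    (h : S.Pred p c C) {g : G} (hg : S.InT g) : (C g).index ≤ p ^ c := by
  have := h g hg.good ∅ (Finset.empty_subset _) (fun _ => ⊤) (by simp)
  simpa [hg.lack_eq] using this

theorem Items.one_le_wt [hp : Fact p.Prime] (S : Items G ι) (i : ι) : 1 ≤ S.wt p i := by
  rw [Items.wt]
  exact Nat.one_le_iff_ne_zero.2 (Nat.mul_ne_zero (by split_ifs <;> omega)
    (pow_ne_zero _ hp.1.ne_zero))

theorem out_cover [Finite G] {M H : Subgroup G} {κ : Type} [Fintype κ] (L : κ → Subgroup G)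
    (h : ∀ g, g ∉ M → g ∈ H ∨ ∃ i, g ∈ L i) :
    out M ⊤ ≤ out M H + ∑ i, out M (L i) := by
  have hsig : Nat.card (Σ i, {x : G // x ∈ L i ∧ x ∉ M}) = ∑ i, out M (L i) := Nat.card_sigma
  rw [← hsig, out, out, ← Nat.card_sum]
  refine Nat.card_le_card_of_surjective
    (fun z => Sum.elim (fun x => ⟨x.1, mem_top _, x.2.2⟩)
      (fun x => ⟨x.2.1, mem_top _, x.2.2.2⟩) z) ?_
  rintro ⟨g, -, hg⟩
  rcases h g hg with h1 | ⟨i, h1⟩
  · exact ⟨Sum.inl ⟨g, h1, hg⟩, rfl⟩
  · exact ⟨Sum.inr ⟨i, g, h1, hg⟩, rfl⟩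

theorem Items.Shape.exists_inT [Finite G] [Fact p.Prime] {c : ℕ} {S : Items G ι}
    (h : S.Shape p c) : ∃ t, S.InT t := by
  by_contra hc
  have h1 : ∀ g, g ∉ S.M → g ∈ (⊥ : Subgroup G) ∨ ∃ i, g ∈ S.L i := fun g hg => by
    by_contra h2; push Not at h2; exact hc ⟨g, hg, h2.2⟩
  have h2 := out_cover S.L h1
  rw [out_eq_zero (bot_le : (⊥ : Subgroup G) ≤ S.M), zero_add] at h2
  exact absurd h.hwt (not_lt.2 (h2.trans (Finset.sum_le_sum fun i _ =>
    Nat.le_mul_of_pos_left _ (S.one_le_wt i))))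

/-- when all weights are at least two, the set `T` generates -/
theorem Items.Shape.exists_inT_notMem [Finite G] [hp : Fact p.Prime] (hG : IsPGroup p G) {c : ℕ}
    {S : Items G ι} (h : S.Shape p c) (hw : ∀ i, 2 ≤ S.wt p i) {H : Subgroup G} (hH : H ≠ ⊤) :
    ∃ t, S.InT t ∧ t ∉ H := by
  by_contra hc
  push Not at hc
  have h1 : ∀ g, g ∉ S.M → g ∈ H ∨ ∃ i, g ∈ S.L i := fun g hg => by
    by_contra h2; push Not at h2; exact h2.1 (hc g ⟨hg, h2.2⟩)
  have h2 := out_cover S.L h1
  have h3 : out S.M H * 2 ≤ out S.M ⊤ := by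
    refine le_trans (Nat.mul_le_mul_left _ ?_) (out_mul_le hG h.hM H)
    have h4 : H.index ≠ 1 := fun h5 => hH (index_eq_one.1 h5)
    have h5 : H.index ≠ 0 := index_ne_zero_of_finite
    omega
  have h6 : ∑ i, 2 * out S.M (S.L i) ≤ ∑ i, S.wt p i * out S.M (S.L i) :=
    Finset.sum_le_sum fun i _ => Nat.mul_le_mul_right _ (hw i)
  rw [← Finset.mul_sum] at h6
  have := h.hwt
  omega

/-- restriction of the index set -/
def Items.sub (S : Items G ι) (P : ι → Prop) : Items G {i // P i} :=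
  ⟨S.M, fun i => S.L i.1, fun i => S.rem i.1, fun i => S.amode i.1⟩

theorem Items.sub_shape {c : ℕ} {S : Items G ι} (h : S.Shape p c) (P : ι → Prop) :
    (S.sub P).Shape p c where
  hM := h.hM
  hL i := h.hL i.1
  hrem i := h.hrem i.1
  hwt := by
    refine lt_of_le_of_lt ?_ h.hwt
    calc ∑ i : {i // P i}, (S.sub P).wt p i * out S.M (S.L i.1)
        = ∑ i ∈ Finset.univ.filter P, S.wt p i * out S.M (S.L i) :=
          (Finset.sum_subtype _ (by simp) (fun i => S.wt p i * out S.M (S.L i))).symm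
      _ ≤ _ := Finset.sum_le_sum_of_subset (Finset.subset_univ _)

theorem Items.sub_reserve {c : ℕ} (S : Items G ι) (P : ι → Prop) :
    (S.sub P).reserve c ≤ S.reserve c :=
  le_of_eq_of_le (Finset.sum_subtype (Finset.univ.filter P) (by simp)
    (fun i => c - S.rem i)).symm (Finset.sum_le_sum_of_subset (Finset.subset_univ _))

theorem Items.sub_pred {c : ℕ} {C : G → Subgroup G} {S : Items G ι} (h : S.Pred p c C)
    (P : ι → Prop) (hP : ∀ i, ¬ P i → S.L i ≤ S.M) : (S.sub P).Pred p c C := by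
  intro g hg R hR K hK
  have hnot : ∀ i, g ∈ S.L i → P i := fun i hi => by
    by_contra h2; exact hg.1 (hP i h2 hi)
  have hgood : S.Good g := ⟨hg.1, fun i ha hi => hg.2 ⟨i, hnot i hi⟩ ha hi⟩
  let K' : ι → Subgroup G := fun i => if hi : P i then K ⟨i, hi⟩ else ⊤
  have hl : (S.lack g) = ((S.sub P).lack g).map (Function.Embedding.subtype P) := by
    ext i
    simp only [Items.lack, Items.sub, Finset.mem_filter, Finset.mem_univ, true_and, Finset.mem_map,
      Function.Embedding.coe_subtype]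
    refine ⟨fun hi => ⟨⟨i, hnot i hi⟩, Finset.mem_filter.2 ⟨Finset.mem_univ _, hi⟩, rfl⟩, ?_⟩
    rintro ⟨j, hj, rfl⟩
    exact (Finset.mem_filter.1 hj).2
  have := h g hgood (R.map (Function.Embedding.subtype P))
    (hl ▸ Finset.map_subset_map.2 hR) K' (by
      intro i hi
      obtain ⟨j, hj, rfl⟩ := Finset.mem_map.1 hi
      have : K' j.1 = K j := by simp only [K', dif_pos j.2]
      exact this.symm ▸ hK j hj)
  rw [hl, Finset.card_map, Finset.inf_map] at this
  have e : R.inf (K' ∘ Function.Embedding.subtype P) = R.inf K :=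
    Finset.inf_congr rfl fun j _ => by simp only [K', Function.comp, Function.Embedding.coe_subtype, dif_pos j.2]
  rwa [e] at this

/-- pushing to a quotient -/
def Items.quot (S : Items G ι) (N : Subgroup G) [N.Normal] : Items (G ⧸ N) ι :=
  ⟨S.M.map (QuotientGroup.mk' N), fun i => (S.L i).map (QuotientGroup.mk' N), S.rem, S.amode⟩

theorem mem_map_mk {N : Subgroup G} [N.Normal] {K : Subgroup G} (hK : N ≤ K) (x : G) :
    (x : G ⧸ N) ∈ K.map (QuotientGroup.mk' N) ↔ x ∈ K := by
  have : x ∈ (K.map (QuotientGroup.mk' N)).comap (QuotientGroup.mk' N) ↔ x ∈ K := by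
    rw [comap_map_eq_self (by simpa using hK)]
  exact this

theorem Items.quot_inT {S : Items G ι} {N : Subgroup G} [N.Normal] (hM : N ≤ S.M)
    (hL : ∀ i, N ≤ S.L i) (x : G) : (S.quot N).InT (x : G ⧸ N) ↔ S.InT x := by
  simp only [Items.InT, Items.quot, mem_map_mk hM, fun i => mem_map_mk (hL i) x]

theorem Items.quot_lack {S : Items G ι} {N : Subgroup G} [N.Normal]
    (hL : ∀ i, N ≤ S.L i) (x : G) : (S.quot N).lack (x : G ⧸ N) = S.lack x := by
  simp only [Items.lack, Items.quot, fun i => mem_map_mk (hL i) x]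

theorem Items.quot_shape [Finite G] [Fact p.Prime] {c : ℕ} {S : Items G ι}
    (h : S.Shape p c) {N : Subgroup G} [N.Normal] (hM : N ≤ S.M) (hL : ∀ i, N ≤ S.L i) :
    (S.quot N).Shape p c where
  hM := by
    rw [Items.quot, ← h.hM]
    exact index_map_eq _ (QuotientGroup.mk'_surjective N) (by simpa using hM)
  hL i := by
    refine ⟨?_, fun z => ?_⟩
    · rw [_root_.commutator_def, Subgroup.commutator_le]
      intro a _ b _
      obtain ⟨a, rfl⟩ := QuotientGroup.mk'_surjective N a
      obtain ⟨b, rfl⟩ := QuotientGroup.mk'_surjective N b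
      rw [← map_commutatorElement]
      refine mem_map_of_mem _ ((h.hL i).1 ?_)
      rw [_root_.commutator_def]; exact commutator_mem_commutator (mem_top _) (mem_top _)
    · obtain ⟨g, rfl⟩ := QuotientGroup.mk'_surjective N z
      rw [← map_pow]; exact mem_map_of_mem _ ((h.hL i).2 g)
  hrem i := h.hrem i
  hwt := by
    have hpos : 0 < Nat.card N := Nat.card_pos
    refine Nat.lt_of_mul_lt_mul_left (a := Nat.card N) ?_
    rw [Finset.mul_sum]
    have e1 : ∀ i, Nat.card N * ((S.quot N).wt p i * out (S.quot N).M ((S.quot N).L i))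
        = S.wt p i * out S.M (S.L i) := fun i => by
      rw [out_quotient N hM (hL i), mul_left_comm]; rfl
    simp only [e1]
    refine lt_of_lt_of_eq h.hwt ?_
    rw [out_quotient N hM le_top, Subgroup.map_top_of_surjective _ (QuotientGroup.mk'_surjective N)]
    rfl

theorem Items.quot_pred {c : ℕ} {S : Items G ι} {N : Subgroup G}
    [N.Normal] (h : S.Pred p c (cenMod N)) (hM : N ≤ S.M) (hL : ∀ i, N ≤ S.L i) :
    (S.quot N).Pred p c cen := by
  intro z hz R hR K hK
  obtain ⟨g, rfl⟩ := QuotientGroup.mk'_surjective N z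
  have hgood : S.Good g :=
    ⟨fun h1 => hz.1 ((mem_map_mk hM g).2 h1), fun i ha h1 => hz.2 i ha ((mem_map_mk (hL i) g).2 h1)⟩
  have hlk : (S.quot N).lack (QuotientGroup.mk' N g) = S.lack g := Items.quot_lack hL g
  rw [hlk] at hR ⊢
  have hsurj := QuotientGroup.mk'_surjective N
  have := h g hgood R hR (fun i => (K i).comap (QuotientGroup.mk' N)) (fun i hi =>
    ⟨fun x hx => (hK i hi).1 (mem_map_of_mem _ hx),
      by rw [index_comap_of_surjective _ hsurj]; exact (hK i hi).2⟩)
  have e : ∀ R : Finset ι, R.inf (fun i => (K i).comap (QuotientGroup.mk' N))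
      = (R.inf K).comap (QuotientGroup.mk' N) := by
    intro R
    induction R using Finset.induction_on with
    | empty => simp
    | insert a s _ ih => rw [Finset.inf_insert, Finset.inf_insert, comap_inf, ih]
  rw [e, cenMod, ← comap_inf, index_comap_of_surjective _ hsurj] at this
  exact this

theorem card_commutator_bound_quot [Finite G] (N : Subgroup G) [N.Normal] {a b : ℕ}
    (hN : Nat.card N ≤ p ^ a) (hq : Nat.card (commutator (G ⧸ N)) ≤ p ^ b) :
    Nat.card (commutator G) ≤ p ^ (a + b) :=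
  (card_commutator_le_quotient N).trans (by rw [pow_add]; exact Nat.mul_le_mul hN hq)

end Breadth66
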