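import Cfsg.Agent.Lib.Breadth66.Remove
import Cfsg.Agent.Lib.Core.Nilpotent

/-!
The quotient moves by `[y, G]` for an element `y` of the second centre.
-/

set_option autoImplicit false

open Subgroup Finset
open scoped Classical commutatorElement

namespace Breadth66

universe u

variable {G : Type u} [Group G] {p : ℕ}

/-- `g ↦ ⁅y, g⁆` for `y` in the second centre -/
def commHom (y : G) (hy : ∀ g, ⁅y, g⁆ ∈ center G) : G →* G :=
  MonoidHom.mk' (fun g => ⁅y, g⁆) (fun a b => by
    have h1 : ⁅y, a * b⁆ = ⁅y, a⁆ * (a * ⁅y, b⁆ * a⁻¹) := by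
      simp only [commutatorElement_def]; group
    rw [h1, mem_center_iff.1 (hy b) a, mul_inv_cancel_right])

variable {y : G} {hy : ∀ g, ⁅y, g⁆ ∈ center G}

theorem commHom_ker : (commHom y hy).ker = cen y := by
  ext g
  rw [MonoidHom.mem_ker, mem_cen, eq_comm (a := g * y)]
  exact commutatorElement_eq_one_iff_mul_comm

theorem commHom_range_le : (commHom y hy).range ≤ center G := by
  rintro _ ⟨g, rfl⟩; exact hy g

instance commHom_range_normal : (commHom y hy).range.Normal :=
  ⟨fun n hn g => by rw [mem_center_iff.1 (commHom_range_le hn) g, mul_inv_cancel_right]; exact hn⟩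

theorem commHom_range_le_commutator : (commHom y hy).range ≤ commutator G := by
  rintro _ ⟨g, rfl⟩
  rw [_root_.commutator_def]; exact commutator_mem_commutator (mem_top _) (mem_top _)

theorem commHom_phiLE (hyp : y ^ p ∈ center G) : PhiLE p (commHom y hy).ker := by
  refine ⟨?_, fun g => ?_⟩
  · rw [_root_.commutator_def, Subgroup.commutator_le]
    intro a _ b _
    rw [MonoidHom.mem_ker, map_commutatorElement, commutatorElement_eq_one_iff_mul_comm]
    exact mem_center_iff.1 (hy b) _
  · rw [MonoidHom.mem_ker, map_pow]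
    change ⁅y, g⁆ ^ p = 1
    have hn : ∀ n : ℕ, ⁅y ^ n, g⁆ = ⁅y, g⁆ ^ n := by
      intro n
      induction n with
      | zero => simp
      | succ n ih =>
        rw [pow_succ', pow_succ]
        have h1 : ⁅y * y ^ n, g⁆ = y * ⁅y ^ n, g⁆ * y⁻¹ * ⁅y, g⁆ := by
          simp only [commutatorElement_def]; group
        rw [h1, ih, mem_center_iff.1 ((center G).pow_mem (hy g) n) y, mul_inv_cancel_right]
    rw [← hn, commutatorElement_eq_one_iff_mul_comm]
    exact (mem_center_iff.1 hyp g).symm

theorem card_commHom_range : Nat.card (commHom y hy).range = (commHom y hy).ker.index :=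
  (index_ker _).symm

theorem self_mem_cenMod (g : G) : y ∈ cenMod (commHom y hy).range g :=
  mem_cenMod.2 ⟨g, rfl⟩

theorem cenMod_mul (g : G) :
    cenMod (commHom y hy).range (g * y) = cenMod (commHom y hy).range g := by
  ext h
  have h2 : ⁅h, y⁆ ∈ (commHom y hy).range :=
    ⟨h⁻¹, by
      change ⁅y, h⁻¹⁆ = ⁅h, y⁆
      have e : ⁅h, y⁆ = h * ⁅y, h⁻¹⁆ * h⁻¹ := by
        simp only [commutatorElement_def]; group
      rw [e, mem_center_iff.1 (hy h⁻¹) h, mul_inv_cancel_right]⟩
  have h1 : ⁅h, g * y⁆ = ⁅h, g⁆ * ⁅h, y⁆ := by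
    have e : ⁅h, g * y⁆ = ⁅h, g⁆ * (g * ⁅h, y⁆ * g⁻¹) := by
      simp only [commutatorElement_def]; group
    rw [e, mem_center_iff.1 (commHom_range_le h2) g, mul_inv_cancel_right]
  rw [mem_cenMod, mem_cenMod, h1, Subgroup.mul_mem_cancel_right _ h2]

theorem cen_mul_le (g : G) : cen (g * y) ≤ cenMod (commHom y hy).range g :=
  (cen_le_cenMod _ _).trans (cenMod_mul g).le

theorem cen_inf_cen_mul_le (g : G) : cen g ⊓ cen (g * y) ≤ (commHom y hy).ker := by
  rintro h ⟨h1, h2⟩
  rw [commHom_ker, mem_cen]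
  have h1' := mem_cen.1 h1
  have h2' := mem_cen.1 h2
  rw [← mul_assoc, h1', mul_assoc, mul_assoc] at h2'
  exact mul_left_cancel h2'

variable {ι : Type} [Fintype ι]

theorem good_mul {S : Items G ι} (hyM : y ∈ S.M) (hyL : ∀ i, y ∈ S.L i) {g : G} (hg : S.Good g) :
    S.Good (g * y) ∧ S.lack (g * y) = S.lack g := by
  refine ⟨⟨fun h => hg.1 (by simpa using S.M.mul_mem h (S.M.inv_mem hyM)),
    fun i ha h => hg.2 i ha (by simpa using (S.L i).mul_mem h ((S.L i).inv_mem (hyL i)))⟩, ?_⟩
  refine Finset.filter_congr fun i _ => ?_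
  exact Subgroup.mul_mem_cancel_right _ (hyL i)

theorem inT_mul {S : Items G ι} (hyM : y ∈ S.M) (hyL : ∀ i, y ∈ S.L i) {g : G} (hg : S.InT g) :
    S.InT (g * y) :=
  ⟨fun h => hg.1 (by simpa using S.M.mul_mem h (S.M.inv_mem hyM)),
    fun i h => hg.2 i (by simpa using (S.L i).mul_mem h ((S.L i).inv_mem (hyL i)))⟩

/-- the list after a quotient step -/
def Items.cons (S : Items G ι) (K : Subgroup G) (ρ : ℕ) (d : ℕ) (a : Prop) (allA : Prop) :
    Items G (Option ι) :=
  ⟨S.M, fun o => o.elim K S.L, fun o => o.elim ρ (fun i => S.rem i - d),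
    fun o => o.elim a (fun i => allA ∨ S.amode i)⟩

theorem cons_lack_card (S : Items G ι) (K : Subgroup G) (ρ d : ℕ) (a b : Prop) (g : G) :
    ((S.cons K ρ d a b).lack g).card = (S.lack g).card + if g ∈ K then 1 else 0 := by
  rw [Items.lack, Items.lack, Finset.card_filter, Finset.card_filter, Fintype.sum_option, add_comm]
  congr

theorem wt_of_not {κ : Type} [Fintype κ] (S : Items G κ) {i : κ} (h : ¬ S.amode i) :
    S.wt p i = p ^ S.rem i := by rw [Items.wt, if_neg h, one_mul]

theorem wt_of {κ : Type} [Fintype κ] (S : Items G κ) {i : κ} (h : S.amode i) :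
    S.wt p i = 2 * p ^ S.rem i := by rw [Items.wt, if_pos h]

theorem standard_pred [Finite G] [hp : Fact p.Prime] (hG : IsPGroup p G) {c : ℕ} {S : Items G ι}
    (hP : S.Pred p (c + 1) cen) (hyM : y ∈ S.M) (hyL : ∀ i, y ∈ S.L i) (ρ : ℕ) :
    (S.cons (commHom y hy).ker ρ 1 False False).Pred p c (cenMod (commHom y hy).range) := by
  intro g hg R hR K hK
  set N := (commHom y hy).range with hN
  set L := (commHom y hy).ker with hLdef
  have hgood : S.Good g := ⟨hg.1, fun i ha => hg.2 (some i) (Or.inr ha)⟩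
  set R0 := Finset.eraseNone R with hR0
  have hR0sub : R0 ⊆ S.lack g := fun i hi =>
    Finset.mem_filter.2 ⟨Finset.mem_univ _, (Finset.mem_filter.1 (hR (Finset.mem_eraseNone.1 hi))).2⟩
  have hK0 : ∀ i ∈ R0, S.L i ≤ K (some i) ∧ (K (some i)).index ≤ p := fun i hi =>
    hK (some i) (Finset.mem_eraseNone.1 hi)
  set X := R0.inf (fun i => K (some i)) with hX
  have hyX : y ∈ X := by
    have : ∀ R' : Finset ι, R' ⊆ R0 → y ∈ R'.inf (fun i => K (some i)) := by
      intro R'
      induction R' using Finset.induction_on with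
      | empty => intro _; simp
      | insert a s _ ih =>
        intro hs
        rw [Finset.inf_insert]
        exact ⟨(hK0 a (hs (Finset.mem_insert_self _ _))).1 (hyL a),
          ih fun z hz => hs (Finset.mem_insert_of_mem hz)⟩
    exact this R0 Finset.Subset.rfl
  have hold := hP g hgood R0 hR0sub (fun i => K (some i)) hK0
  rw [← hX] at hold
  have hle : cen g ⊓ X ≤ cenMod N g ⊓ X := inf_le_inf_right _ (cen_le_cenMod _ _)
  have hlk := cons_lack_card S L ρ 1 False False g
  rw [hlk]
  have hRle : R.inf K ≤ X := Finset.le_inf fun i hi => Finset.inf_le (Finset.mem_eraseNone.1 hi)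
  by_cases hnone : none ∈ R
  · have hgL : g ∈ L := (Finset.mem_filter.1 (hR hnone)).2
    rw [if_pos hgL]
    have hRge : K none ⊓ X ≤ R.inf K := Finset.le_inf fun o ho => by
      cases o with
      | none => exact inf_le_left
      | some i => exact inf_le_right.trans (Finset.inf_le (Finset.mem_eraseNone.2 ho))
    refine le_trans (Nat.le_of_dvd (Nat.pos_of_ne_zero index_ne_zero_of_finite)
      (index_dvd_of_le (inf_le_inf_left (cenMod N g) hRge))) ?_
    by_cases heq : cenMod N g ⊓ X ≤ cen g ⊓ X ∧ cenMod N g ⊓ X ≤ cen (g * y) ⊓ X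
    · have h1 : cenMod N g ⊓ X ≤ K none := fun z hz =>
        (hK none hnone).1 (cen_inf_cen_mul_le g ⟨(heq.1 hz).1, (heq.2 hz).1⟩)
      have h2 : cen g ⊓ X ≤ cenMod N g ⊓ (K none ⊓ X) :=
        le_inf (hle.trans inf_le_left) (le_inf (hle.trans h1) inf_le_right)
      refine le_trans (Nat.le_of_dvd (Nat.pos_of_ne_zero index_ne_zero_of_finite)
        (index_dvd_of_le h2)) (hold.trans (le_of_eq ?_))
      rw [show c + ((S.lack g).card + 1) = c + 1 + (S.lack g).card by omega]
    · have hb : (cenMod N g ⊓ X).index * p ≤ p ^ (c + 1 + (S.lack g).card) := by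
        rcases not_and_or.1 heq with h | h
        · exact (index_drop hG hle h).trans hold
        · have hle2 : cen (g * y) ⊓ X ≤ cenMod N g ⊓ X := inf_le_inf_right _ (cen_mul_le g)
          obtain ⟨hgood', hlk'⟩ := good_mul hyM hyL hgood
          have := hP (g * y) hgood' R0 (hlk' ▸ hR0sub) (fun i => K (some i)) hK0
          rw [hlk', ← hX] at this
          exact (index_drop hG hle2 h).trans this
      rw [← inf_assoc, inf_right_comm]
      refine index_inf_le.trans ((Nat.mul_le_mul_left _ (hK none hnone).2).trans (hb.trans (le_of_eq ?_)))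
      rw [show c + ((S.lack g).card + 1) = c + 1 + (S.lack g).card by omega]
  · have hRge : X ≤ R.inf K := Finset.le_inf fun o ho => by
      cases o with
      | none => exact absurd ho hnone
      | some i => exact Finset.inf_le (Finset.mem_eraseNone.2 ho)
    rw [le_antisymm hRle hRge]
    have hle' := Nat.le_of_dvd (Nat.pos_of_ne_zero index_ne_zero_of_finite) (index_dvd_of_le hle)
    by_cases hgL : g ∈ L
    · rw [if_pos hgL]
      exact (hle'.trans hold).trans (le_of_eq (by
        rw [show c + ((S.lack g).card + 1) = c + 1 + (S.lack g).card by omega]))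
    · rw [if_neg hgL, add_zero]
      have hne : ¬ cenMod N g ⊓ X ≤ cen g ⊓ X := fun h => hgL (by
        have hy' := (h ⟨self_mem_cenMod g, hyX⟩).1
        rw [hLdef, commHom_ker, mem_cen]
        exact (mem_cen.1 hy').symm)
      have h1 := (index_drop hG hle hne).trans hold
      rw [show c + 1 + (S.lack g).card = (c + (S.lack g).card) + 1 by omega, pow_succ] at h1
      exact Nat.le_of_mul_le_mul_right h1 hp.1.pos

theorem cons_shape_hL {c : ℕ} {S : Items G ι} (hS : S.Shape p c) {K : Subgroup G}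
    (hK : PhiLE p K) (ρ d : ℕ) (a b : Prop) (o : Option ι) : PhiLE p ((S.cons K ρ d a b).L o) := by
  cases o with
  | none => exact hK
  | some i => exact hS.hL i

theorem standard_shape [Finite G] [hp : Fact p.Prime] (hG : IsPGroup p G) {c : ℕ} {S : Items G ι}
    (hS : S.Shape p (c + 1)) (hrem : ∀ i, 1 ≤ S.rem i) {L : Subgroup G} (hL : PhiLE p L)
    {r : ℕ} (hr : L.index = p ^ r) {ρ : ℕ} (hρc : ρ ≤ c) (hρr : ρ + 1 ≤ r) :
    (S.cons L ρ 1 False False).Shape p c := by
  refine ⟨hS.hM, cons_shape_hL hS hL _ _ _ _, fun o => ?_, ?_⟩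
  · cases o with
    | none => exact hρc
    | some i => have := hS.hrem i; simp only [Items.cons, Option.elim_some]; omega
  · set S' := S.cons L ρ 1 False False with hS'
    have h0 : p * (S'.wt p none * out S.M L) ≤ out S.M ⊤ := by
      rw [wt_of_not S' (i := none) not_false]
      change p * (p ^ ρ * out S.M L) ≤ _
      refine le_trans ?_ (out_mul_le hG hS.hM L)
      rw [hr, ← mul_assoc, ← pow_succ', mul_comm]
      exact Nat.mul_le_mul_left _ (Nat.pow_le_pow_right hp.1.pos hρr)
    have h1 : ∀ i, p * (S'.wt p (some i) * out S.M (S.L i)) =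
        S.wt p i * out S.M (S.L i) := by
      intro i
      have hr' : S'.rem (some i) + 1 = S.rem i := by
        change S.rem i - 1 + 1 = _; have := hrem i; omega
      have ha' : S'.amode (some i) ↔ S.amode i := by
        change (False ∨ S.amode i) ↔ _; simp
      rw [← mul_assoc]
      congr 1
      by_cases ha : S.amode i
      · rw [wt_of S' (ha'.2 ha), wt_of S ha, ← hr', pow_succ]; ring
      · rw [wt_of_not S' (fun h => ha (ha'.1 h)), wt_of_not S ha, ← hr', pow_succ]; ring
    have h3 := hS.hwt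
    have h4 : 2 * out S.M ⊤ ≤ p * out S.M ⊤ := Nat.mul_le_mul_right _ hp.1.two_le
    change (∑ o, S'.wt p o * out S.M (S'.L o)) < out S.M ⊤
    refine Nat.lt_of_mul_lt_mul_left (a := p) ?_
    rw [Fintype.sum_option, mul_add, Finset.mul_sum]
    change p * (S'.wt p none * out S.M L) + ∑ i, p * (S'.wt p (some i) * out S.M (S.L i)) < _
    rw [Finset.sum_congr rfl fun i _ => h1 i]
    omega

/-- in the case of large `r`, elements of `T` outside the kernel lose much -/
theorem inT_bound [Finite G] [hp : Fact p.Prime] (hG : IsPGroup p G) {c r : ℕ} {S : Items G ι}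
    (hP : S.Pred p c cen) (hyM : y ∈ S.M) (hyL : ∀ i, y ∈ S.L i)
    (hr : (commHom y hy).ker.index = p ^ r) {t : G} (ht : S.InT t) (htL : t ∉ (commHom y hy).ker) :
    ∃ a, (cenMod (commHom y hy).range t).index = p ^ a ∧ a + r + 1 ≤ 2 * c := by
  obtain ⟨a, ha⟩ := index_exp hG (cenMod (commHom y hy).range t)
  refine ⟨a, ha, ?_⟩
  set D := cenMod (commHom y hy).range t with hD
  set L := (commHom y hy).ker with hLdef
  have hC1 : cen t ≤ D := cen_le_cenMod _ _
  have hC2 : cen (t * y) ≤ D := cen_mul_le t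
  have hle : cen t ⊓ cen (t * y) ≤ D ⊓ L := le_inf (inf_le_left.trans hC1) (cen_inf_cen_mul_le t)
  have hyL0 : y ∈ L := by rw [hLdef, commHom_ker, mem_cen]
  have hne : ¬ D ⊓ L ≤ cen t ⊓ cen (t * y) := fun h => htL (by
    have hy' := (h ⟨self_mem_cenMod t, hyL0⟩).1
    rw [hLdef, commHom_ker, mem_cen]
    exact (mem_cen.1 hy').symm)
  have h1 := index_drop hG hle hne
  have h2 : L.index ≤ (D ⊓ L).index := Nat.le_of_dvd (Nat.pos_of_ne_zero index_ne_zero_of_finite)
    (index_dvd_of_le inf_le_right)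
  have h3 : (cen t ⊓ cen (t * y)).index ≤ (cen t).relIndex D * (cen (t * y)).relIndex D * D.index := by
    rw [← relIndex_mul_index (inf_le_left.trans hC1 : cen t ⊓ cen (t * y) ≤ D)]
    exact Nat.mul_le_mul_right _ relIndex_inf_le
  have h4 := hP.le_of_inT ht
  have h5 := hP.le_of_inT (inT_mul hyM hyL ht)
  rw [← relIndex_mul_index hC1] at h4
  rw [← relIndex_mul_index hC2] at h5
  have h6 : p ^ (a + r + 1) ≤ p ^ (2 * c) := by
    rw [pow_succ, pow_add, ← ha, ← hr, two_mul, pow_add]
    calc D.index * L.index * p ≤ D.index * ((D ⊓ L).index * p) := by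
          rw [mul_assoc]; exact Nat.mul_le_mul_left _ (Nat.mul_le_mul_right _ h2)
      _ ≤ D.index * ((cen t).relIndex D * (cen (t * y)).relIndex D * D.index) :=
          Nat.mul_le_mul_left _ (h1.trans h3)
      _ = ((cen t).relIndex D * D.index) * ((cen (t * y)).relIndex D * D.index) := by ring
      _ ≤ _ := Nat.mul_le_mul h4 h5
  exact (Nat.pow_le_pow_iff_right hp.1.one_lt).1 h6

theorem exists_y [Finite G] [hp : Fact p.Prime] (hG : IsPGroup p G) {D : Subgroup G} [D.Normal]
    (hD : ¬ D ≤ center G) :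
    ∃ y ∈ D, (∀ g, ⁅y, g⁆ ∈ center G) ∧ y ^ p ∈ center G ∧ y ∉ center G := by
  set f := QuotientGroup.mk' (center G) with hf
  haveI : (D.map f).Normal := Subgroup.Normal.map inferInstance f (QuotientGroup.mk'_surjective _)
  have hne : D.map f ≠ ⊥ := fun h => hD (by
    intro x hx
    have : f x ∈ (⊥ : Subgroup _) := h ▸ mem_map_of_mem f hx
    exact (QuotientGroup.eq_one_iff x).1 this)
  haveI : Group.IsNilpotent (G ⧸ center G) := (hG.to_quotient _).isNilpotent
  have hI := Cfsg.Agent.Lib.Nilp.inf_center_ne_bot_of_normal hne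
  obtain ⟨z, hz, hz1⟩ := ((D.map f ⊓ center (G ⧸ center G)).ne_bot_iff_exists_ne_one.1 hI).elim
    fun z hz => (⟨z.1, z.2, fun h => hz (Subtype.ext h)⟩ :
      ∃ z, z ∈ D.map f ⊓ center (G ⧸ center G) ∧ z ≠ 1)
  obtain ⟨k, hk⟩ := (IsPGroup.iff_orderOf.1 (hG.to_quotient (center G))) z
  have hk0 : k ≠ 0 := fun h => hz1 (orderOf_eq_one_iff.1 (by rw [hk, h, pow_zero]))
  set w := z ^ p ^ (k - 1) with hw
  have hwmem : w ∈ D.map f ⊓ center (G ⧸ center G) := Subgroup.pow_mem _ hz _
  have hwp : w ^ p = 1 := by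
    rw [hw, ← pow_mul, ← pow_succ, show k - 1 + 1 = k by omega, ← hk, pow_orderOf_eq_one]
  have hw1 : w ≠ 1 := by
    intro h
    have h2 := orderOf_dvd_of_pow_eq_one h
    rw [hk] at h2
    have := (Nat.pow_dvd_pow_iff_le_right hp.1.one_lt).1 h2
    omega
  obtain ⟨y, hyD, hyw⟩ := hwmem.1
  refine ⟨y, hyD, fun g => ?_, ?_, fun h => hw1 (by rw [← hyw]; exact (QuotientGroup.eq_one_iff y).2 h)⟩
  · refine (QuotientGroup.eq_one_iff _).1 ?_
    change f ⁅y, g⁆ = 1
    rw [map_commutatorElement, commutatorElement_eq_one_iff_mul_comm, hyw]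
    exact (mem_center_iff.1 hwmem.2 (f g)).symm
  · refine (QuotientGroup.eq_one_iff _).1 ?_
    change f (y ^ p) = 1
    rw [map_pow, hyw, hwp]

end Breadth66
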